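import Groth.Agent.L29.DCoh.FreeIso
import Groth.Agent.L00.PullStalk

/-!
# The open locus where a map of locally free modules is an isomorphism
-/

set_option autoImplicit false
set_option linter.style.haveILetI false
set_option backward.isDefEq.respectTransparency false
set_option backward.isDefEq.respectTransparency.types false

universe u

open CategoryTheory AlgebraicGeometry TopologicalSpace Scheme.Modules

noncomputable section

namespace Groth.L20.DescLocus

open Groth.L29.DC.Fib (Φ)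

variable {X Y Z : Scheme.{u}}

theorem isIso_map_comp_iff (a : Z ⟶ Y) (b : Y ⟶ X) {M N : X.Modules} (φ : M ⟶ N) :
    IsIso ((pullback a).map ((pullback b).map φ)) ↔ IsIso ((pullback (a ≫ b)).map φ) :=
  NatIso.isIso_map_iff (pullbackComp a b) φ

theorem isIso_map_eq {a b : Y ⟶ X} (h : a = b) {M N : X.Modules} (φ : M ⟶ N) :
    IsIso ((pullback a).map φ) ↔ IsIso ((pullback b).map φ) := by
  subst h; rfl

theorem isIso_map_of_fac {a : Z ⟶ X} (k : Z ⟶ Y) (b : Y ⟶ X) (h : k ≫ b = a) {M N : X.Modules} (φ : M ⟶ N)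
    [IsIso ((pullback b).map φ)] : IsIso ((pullback a).map φ) := by
  rw [← isIso_map_eq h φ, ← isIso_map_comp_iff]
  infer_instance

theorem pullback_iff_restrict (j : Y ⟶ X) [IsOpenImmersion j] {M N : X.Modules} (φ : M ⟶ N) :
    IsIso ((restrictFunctor j).map φ) ↔ IsIso ((pullback j).map φ) :=
  NatIso.isIso_map_iff (restrictFunctorIsoPullback j) φ

/-- The largest open over which a map of modules is an isomorphism. -/
def isoLocus {M N : X.Modules} (φ : M ⟶ N) : X.Opens :=
  sSup {W | IsIso ((pullback W.ι).map φ)}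

/-- Pullbacks along morphisms into the locus are isomorphisms. -/
theorem isIso_of_range_subset {M N : X.Modules} (φ : M ⟶ N) (v : Y ⟶ X)
    (h : ∀ y, v y ∈ isoLocus φ) : IsIso ((pullback v).map φ) := by
  refine Groth.L21.Mod.isIso_of_restrict_opens
    (fun W : {W : X.Opens // IsIso ((pullback W.ι).map φ)} => v ⁻¹ᵁ W.1)
    (eq_top_iff.2 fun y _ => ?_) _ fun W => ?_
  · obtain ⟨W, hW, hy⟩ := Opens.mem_sSup.1 (h y)
    exact Opens.mem_iSup.2 ⟨⟨W, hW⟩, hy⟩
  · haveI := W.2
    rw [pullback_iff_restrict, isIso_map_comp_iff]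
    exact isIso_map_of_fac (v ∣_ W.1) W.1.ι (morphismRestrict_ι v W.1) φ

/-- Free modules pull back to free modules. -/
theorem nonempty_free_pullback {M : X.Modules} {O : X.Opens} {n : ℕ}
    (e : M.restrict O.ι ≅ FlatMod.freeMod (↑O) n) (k : Y ⟶ O) {a : Y ⟶ X} (h : k ≫ O.ι = a) :
    Nonempty ((pullback a).obj M ≅ FlatMod.freeMod Y n) := by
  subst h
  exact ⟨((pullbackComp k O.ι).app M).symm ≪≫
    (pullback k).mapIso (((restrictFunctorIsoPullback O.ι).app M).symm ≪≫ e) ≪≫
      Groth.L29.LocFree.pullbackFreeIso k n⟩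

/-- A map of locally free modules that becomes an isomorphism after pullback is an isomorphism near
the image. -/
theorem mem_isoLocus_of_pullback (v : Y ⟶ X) {M N : X.Modules} (hM : FlatMod.IsFinLocFree M)
    (hN : FlatMod.IsFinLocFree N) (φ : M ⟶ N) [IsIso ((pullback v).map φ)] (y : Y) :
    v y ∈ isoLocus φ := by
  obtain ⟨U₁, n, h₁, ⟨e₁⟩⟩ := hM (v y)
  obtain ⟨U₂, m, h₂, ⟨e₂⟩⟩ := hN (v y)
  let O : X.Opens := U₁ ⊓ U₂
  obtain ⟨a⟩ := nonempty_free_pullback e₁ (X.homOfLE (inf_le_left : O ≤ U₁)) (X.homOfLE_ι _)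
  obtain ⟨b⟩ := nonempty_free_pullback e₂ (X.homOfLE (inf_le_right : O ≤ U₂)) (X.homOfLE_ι _)
  let φ' := (pullback O.ι).map φ
  let v' := v ∣_ O
  haveI : IsIso ((pullback v').map φ') := by
    rw [isIso_map_comp_iff]
    exact isIso_map_of_fac (v ⁻¹ᵁ O).ι v (morphismRestrict_ι v O).symm φ
  let y' : (v ⁻¹ᵁ O : Y.Opens) := ⟨y, h₁, h₂⟩
  let α := (v'.stalkMap y').hom
  let β := ((v ⁻¹ᵁ O : Scheme.{u}).residue y').hom
  haveI : IsIso ((Φ (β.comp α)).map φ') := by
    have hs : IsIso ((Groth.L00.Stk.F (O : Scheme.{u}) (v' y') ⋙ ModuleCat.extendScalars α).map φ') :=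
      (NatIso.isIso_map_iff (Groth.L00.PullStalk.stalkIso v' y') φ').1
        (show IsIso ((Groth.L00.Stk.F _ y').map ((pullback v').map φ')) from inferInstance)
    exact (NatIso.isIso_map_iff (ModuleCat.extendScalarsComp α β) _).2
      (show IsIso ((ModuleCat.extendScalars β).map ((ModuleCat.extendScalars α).map
        ((Groth.L00.Stk.F (O : Scheme.{u}) (v' y')).map φ'))) from
          @Functor.map_isIso _ _ _ _ _ _ _ _ hs)
  haveI : IsLocalHom ((v ⁻¹ᵁ O : Scheme.{u}).residue y').hom :=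
    inferInstanceAs (IsLocalHom (IsLocalRing.residue _))
  haveI : IsLocalHom (β.comp α) := RingHom.isLocalHom_comp β α
  have hnm : n = m := by
    rw [← Groth.L29.DC.Fib.finrank_Φ_of_iso (β.comp α) a, ← Groth.L29.DC.Fib.finrank_Φ_of_iso (β.comp α) b]
    exact (asIso ((Φ (β.comp α)).map φ')).toLinearEquiv.finrank_eq
  subst hnm
  obtain ⟨W, hyW, hW⟩ := Groth.L29.DC.Fib.exists_isIso_nhd (β.comp α) a b φ'
    (ConcreteCategory.bijective_of_isIso ((Φ (β.comp α)).map φ')).1
  rw [pullback_iff_restrict, isIso_map_comp_iff] at hW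
  let W' : X.Opens := O.ι ''ᵁ W
  have hW' : IsIso ((pullback W'.ι).map φ) := by
    haveI := hW
    refine isIso_map_of_fac (O.ι.isoImage W).inv (W.ι ≫ O.ι) ?_ φ
    rw [Iso.inv_comp_eq]
    exact (Scheme.Hom.isoImage_hom_ι O.ι W).symm
  exact Opens.mem_sSup.2 ⟨W', hW', ⟨_, hyW, by
    show O.ι (v' y') = v y
    rw [← Scheme.Hom.comp_apply, morphismRestrict_ι]
    rfl⟩⟩

end Groth.L20.DescLocus
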