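import Groth.Agent.L20.DescLocus.Unit
import Groth.Agent.L20.DescLocus.IsoLocus
import Mathlib.AlgebraicGeometry.Morphisms.Immersion
import Mathlib.AlgebraicGeometry.Limits
import Mathlib.AlgebraicGeometry.PullbackCarrier

/-!
# The subscheme over which a locally free module comes from the base
-/

set_option autoImplicit false
set_option linter.style.haveILetI false
set_option linter.unusedSectionVars false
set_option backward.isDefEq.respectTransparency false
set_option backward.isDefEq.respectTransparency.types false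

universe u

open CategoryTheory AlgebraicGeometry TopologicalSpace
open Groth.L17 Groth.L17.BC Groth.L17.BC.Classes

noncomputable section

namespace Groth.L20.DescLocus

local notation "pb" => Scheme.Modules.pullback
local notation "pf" => Scheme.Modules.pushforward
local notation "adj" => Scheme.Modules.pullbackPushforwardAdjunction

variable {X S T T' : Scheme.{u}} (f : X ⟶ S) (E : X.Modules)

/-- The projection to the base of a base change of `f`. -/
abbrev pr (v : T ⟶ S) : Limits.pullback f v ⟶ T := Limits.pullback.snd f v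

/-- The base change of the module. -/
abbrev ET (v : T ⟶ S) : (Limits.pullback f v).Modules := (pb (Limits.pullback.fst f v)).obj E

/-- Trivial, with some rank, locally on the base. -/
def LocTriv (v : T ⟶ S) : Prop :=
  ∀ t : T, ∃ (T' : Scheme.{u}) (k : T' ⟶ T) (n : ℕ), IsOpenImmersion k ∧ t ∈ Set.range (fun a => k a) ∧
    Nonempty (ET f E (k ≫ v) ≅ FlatMod.freeMod _ n)

/-- The map between base changes. -/
def proj (h : T' ⟶ T) (v : T ⟶ S) : Limits.pullback f (h ≫ v) ⟶ Limits.pullback f v :=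
  Limits.pullback.lift (Limits.pullback.fst f _) (pr f (h ≫ v) ≫ h)
    (by rw [Category.assoc, Limits.pullback.condition])

theorem proj_fst (h : T' ⟶ T) (v : T ⟶ S) :
    proj f h v ≫ Limits.pullback.fst f v = Limits.pullback.fst f (h ≫ v) := Limits.pullback.lift_fst _ _ _

theorem proj_snd (h : T' ⟶ T) (v : T ⟶ S) : proj f h v ≫ pr f v = pr f (h ≫ v) ≫ h :=
  Limits.pullback.lift_snd _ _ _

theorem isPullback_proj (h : T' ⟶ T) (v : T ⟶ S) :
    IsPullback (proj f h v) (pr f (h ≫ v)) (pr f v) h := by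
  refine IsPullback.of_right ?_ (proj_snd f h v) (IsPullback.of_hasPullback f v)
  rw [proj_fst]
  exact IsPullback.of_hasPullback f (h ≫ v)

/-- The base change of the module along a map of bases. -/
def projIso (h : T' ⟶ T) (v : T ⟶ S) : (pb (proj f h v)).obj (ET f E v) ≅ ET f E (h ≫ v) :=
  (Scheme.Modules.pullbackComp (proj f h v) (Limits.pullback.fst f v)).app E ≪≫
    (Scheme.Modules.pullbackCongr (proj_fst f h v)).app E

theorem LocTriv.baseChange {v : T ⟶ S} (H : LocTriv f E v) (h : T' ⟶ T) : LocTriv f E (h ≫ v) := by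
  intro t
  obtain ⟨T₁, k, n, hk, ⟨a, ha⟩, ⟨e⟩⟩ := H (h t)
  haveI := hk
  obtain ⟨c, -, hc⟩ := Scheme.Pullback.exists_preimage_pullback (f := k) (g := h) a t ha
  let k' := Limits.pullback.snd k h
  have hsq : Limits.pullback.fst k h ≫ (k ≫ v) = k' ≫ (h ≫ v) := by
    rw [Limits.pullback.condition_assoc]
  let π : Limits.pullback f (k' ≫ (h ≫ v)) ⟶ Limits.pullback f (k ≫ v) :=
    Limits.pullback.lift (Limits.pullback.fst f _) (Limits.pullback.snd f _ ≫ Limits.pullback.fst k h)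
      (by rw [Category.assoc, hsq, Limits.pullback.condition])
  refine ⟨_, k', n, inferInstance, ⟨c, hc⟩, ⟨?_⟩⟩
  exact ((Scheme.Modules.pullbackCongr
      (show π ≫ Limits.pullback.fst f (k ≫ v) = Limits.pullback.fst f (k' ≫ (h ≫ v)) from
        Limits.pullback.lift_fst _ _ _)).app E).symm ≪≫
    ((Scheme.Modules.pullbackComp π _).app E).symm ≪≫ (pb π).mapIso e ≪≫
      Groth.L29.LocFree.pullbackFreeIso π n

theorem locTriv_of_desc (v : T ⟶ S) (N : T.Modules) (hN : FlatMod.IsFinLocFree N)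
    (e : (pb (pr f v)).obj N ≅ ET f E v) : LocTriv f E v := by
  intro t
  obtain ⟨U, n, htU, ⟨a⟩⟩ := hN t
  refine ⟨U, U.ι, n, inferInstance, ⟨⟨t, htU⟩, rfl⟩, ?_⟩
  obtain ⟨b⟩ := nonempty_free_pullback a (pr f (U.ι ≫ v)) rfl
  exact ⟨(projIso f E U.ι v).symm ≪≫ (pb (proj f U.ι v)).mapIso e.symm ≪≫
    (Scheme.Modules.pullbackComp (proj f U.ι v) (pr f v)).app N ≪≫
      (Scheme.Modules.pullbackCongr (proj_snd f U.ι v)).app N ≪≫ b⟩

variable (hO : ∀ (T : Scheme.{u}) (g : T ⟶ S) (U : T.Opens), IsIso ((Limits.pullback.snd f g).app U))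
include hO

theorem app_isIso {T XT : Scheme.{u}} {v : T ⟶ S} {fT : XT ⟶ T} {gT : XT ⟶ X} (h : IsPullback gT fT f v)
    (U : T.Opens) : IsIso (fT.app U) := by
  rw [← h.isoPullback_hom_snd, Scheme.Hom.comp_app]
  haveI := hO T v U
  infer_instance

/-- Every fibre of `f` is nonempty. -/
theorem surjective_f (s : S) : ∃ x, f x = s := by
  let v := S.fromSpecResidueField s
  haveI := hO _ v ⊤
  by_contra hc
  push Not at hc
  have hemp : IsEmpty ↥(Limits.pullback f v) := ⟨fun y => hc (Limits.pullback.fst f v y) (by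
    rw [← Scheme.Hom.comp_apply, Limits.pullback.condition, Scheme.Hom.comp_apply,
      Scheme.fromSpecResidueField_apply])⟩
  haveI : Subsingleton Γ(Limits.pullback f v, ⊤) := by infer_instance
  haveI : Subsingleton Γ(Limits.pullback f v, pr f v ⁻¹ᵁ ⊤) := by
    change Subsingleton Γ(Limits.pullback f v, ⊤); infer_instance
  haveI : Subsingleton Γ(Spec (S.residueField s), ⊤) :=
    (ConcreteCategory.bijective_of_isIso ((pr f v).app ⊤)).1.subsingleton
  haveI : Subsingleton (S.residueField s) :=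
    (Scheme.ΓSpecIso (S.residueField s)).commRingCatIsoToRingEquiv.symm.injective.subsingleton
  exact not_subsingleton (S.residueField s) inferInstance

variable [IsProper f] [LocallyOfFinitePresentation f] [HasInjectiveResolutions X.Modules]
  [Coh.IsQCoh E] (hfp : CohB1.IsFP E) (hfl : FlatMod.IsFlatOver f E) (hE : FlatMod.IsFinLocFree E)
include hfp hfl

/-- Triviality gives goodness. -/
theorem LocTriv.good {v : T ⟶ S} (H : LocTriv f E v) (t : T) :
    ∃ (T' : Scheme.{u}) (k : T' ⟶ T) (n : ℕ), IsOpenImmersion k ∧ t ∈ Set.range (fun a => k a) ∧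
      Nonempty (ET f E (k ≫ v) ≅ FlatMod.freeMod _ n) ∧ Good f E v n t := by
  obtain ⟨T', k, n, hk, ht, ⟨e⟩⟩ := H t
  haveI := hk
  refine ⟨T', k, n, hk, ht, ⟨e⟩, ?_⟩
  have happ := hO T' (k ≫ v)
  have hgood : ∀ a, Good f E (k ≫ v) n a := by
    refine (bcFree_iff_good f E hfp hfl n (k ≫ v) (IsPullback.of_hasPullback f _)).1 ⟨?_, ?_⟩
    · obtain ⟨i⟩ := nonempty_push_free (pr f (k ≫ v)) happ e
      intro x
      refine ⟨⊤, trivial, ⟨?_⟩⟩
      exact (Scheme.Modules.restrictFunctor (⊤ : T'.Opens).ι).mapIso i ≪≫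
        (Scheme.Modules.restrictFunctorIsoPullback _).app _ ≪≫ Groth.L29.LocFree.pullbackFreeIso _ n
    · intro X'' T'' v' f'' u' hsq
      exact isIso_bc0_of_free (pr f (k ≫ v)) happ u' f'' v' hsq.w
        (app_isIso f hO (hsq.paste_horiz (IsPullback.of_hasPullback f (k ≫ v)))) e
  refine good_of_local f E hfp hfl n v k.opensRange (fun a => ?_) ht
  obtain ⟨a', ha'⟩ : ∃ a', k a' = a.1 := a.2
  have hfac : k.opensRange.ι ≫ v = k.isoOpensRange.inv ≫ (k ≫ v) := by
    rw [← Category.assoc, Scheme.Hom.isoOpensRange_inv_comp]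
  rw [hfac]
  exact good_comp f E hfp hfl n _ _ hgood a

omit hO in
/-- Surjectivity of the fibre base change maps gives local freeness and base change. -/
theorem of_epi {v : T ⟶ S} (h : ∀ t, ∃ r, Good f E v r t) :
    FlatMod.IsFinLocFree ((pf (pr f v)).obj (ET f E v)) ∧
      ∀ ⦃X'' T' : Scheme.{u}⦄ (v' : X'' ⟶ Limits.pullback f v) (f'' : X'' ⟶ T') (u' : T' ⟶ T)
        (hsq : IsPullback v' f'' (pr f v) u'), IsIso (CohBC.bc0 (pr f v) u' f'' v' hsq.w (ET f E v)) := by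
  haveI := PushQCoh.hasInjectiveResolutions (Limits.pullback f v)
  haveI : Coh.IsQCoh (ET f E v) := Groth.L16.AffineBC.isQCoh_pullback _ _
  have hsplit : ∀ y ∈ (⊤ : T.Opens), ∃ (W : T.Opens) (hW : IsAffineOpen W)
      (l' : FreeBC0 (pr f v) (ET f E v) W),
      y ∈ W ∧ ∀ y' (hy' : y' ∈ W), y' ∈ (⊤ : T.Opens) → l'.free.Split hW 0 hy' := fun y _ => by
    obtain ⟨V, hV, W, hW, le, -, hyW⟩ := exists_chart_pair f E hfp hfl v y ⊤ trivial
    obtain ⟨g, l, hl⟩ := exists_det f E hfp hfl hV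
    obtain ⟨l', -⟩ := exists_freeBC0_pullback hfl hV g l hl v (IsPullback.of_hasPullback f v) hW le
    refine ⟨W, hW, l', hyW, fun y' hy' _ => ?_⟩
    obtain ⟨r, hr⟩ := h y'
    exact (epi_bc0_iff_split hW l' hy').1 hr.1
  refine ⟨fun t => ?_, fun X'' T' v' f'' u' hsq =>
    isIso_bc0 (U := ⊤) hsq (fun _ => trivial) hsplit⟩
  obtain ⟨W, hW, l', htW, hl'⟩ := hsplit t trivial
  obtain ⟨Δ⟩ := nonempty_derivedLES (pr f v)
  obtain ⟨O, htO, hO', -⟩ := l'.exists_locFree hW Δ htW (hl' t htW trivial)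
  exact hO' t htO

omit hO hfp hfl in
theorem isFinLocFree_pullback {A B : Scheme.{u}} (a : A ⟶ B) {M : B.Modules} (hM : FlatMod.IsFinLocFree M) :
    FlatMod.IsFinLocFree ((pb a).obj M) := by
  intro x
  obtain ⟨U, n, hx, ⟨e⟩⟩ := hM (a x)
  obtain ⟨i⟩ := nonempty_free_pullback e (a ∣_ U) rfl
  exact ⟨a ⁻¹ᵁ U, n, hx, ⟨(Scheme.Modules.restrictFunctorIsoPullback _).app _ ≪≫
    (Scheme.Modules.pullbackComp (a ⁻¹ᵁ U).ι a).app M ≪≫
      (Scheme.Modules.pullbackCongr (morphismRestrict_ι a U).symm).app M ≪≫ i⟩⟩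

omit hO hfp hfl in
theorem counit_pullback {v : T ⟶ S} (h : T' ⟶ T)
    [IsIso (CohBC.bc0 (pr f v) h (pr f (h ≫ v)) (proj f h v) (proj_snd f h v) (ET f E v))] :
    IsIso ((pb (proj f h v)).map ((adj (pr f v)).counit.app (ET f E v))) ↔
      IsIso ((adj (pr f (h ≫ v))).counit.app (ET f E (h ≫ v))) := by
  rw [pullback_counit (pr f v) h (pr f (h ≫ v)) (proj f h v) (proj_snd f h v)]
  rw [isIso_comp_left_iff, isIso_comp_left_iff]
  exact NatTrans.isIso_app_iff_of_iso (adj (pr f (h ≫ v))).counit (projIso f E h v)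

include hE

/-- Triviality gives the counit isomorphism. -/
theorem LocTriv.isIso_counit {v : T ⟶ S} (H : LocTriv f E v) :
    FlatMod.IsFinLocFree ((pf (pr f v)).obj (ET f E v)) ∧
      IsIso ((adj (pr f v)).counit.app (ET f E v)) := by
  obtain ⟨hfree, hbc⟩ := of_epi f E hfp hfl (v := v) fun t => by
    obtain ⟨-, -, n, -, -, -, hn⟩ := H.good f E hO hfp hfl t
    exact ⟨n, hn⟩
  refine ⟨hfree, ?_⟩
  set ε := (adj (pr f v)).counit.app (ET f E v)
  have hall : ∀ y, y ∈ isoLocus ε := fun y => by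
    obtain ⟨T', k, n, hk, ⟨a, ha⟩, ⟨e⟩⟩ := H (pr f v y)
    obtain ⟨y', hy', -⟩ := Scheme.exists_preimage_of_isPullback (isPullback_proj f k v) y a ha.symm
    haveI := hbc (proj f k v) (pr f (k ≫ v)) k (isPullback_proj f k v)
    haveI : IsIso ((pb (proj f k v)).map ε) :=
      (counit_pullback f E k).2 (isIso_counit_of_free (pr f (k ≫ v)) (hO _ _) e)
    rw [← hy']
    exact mem_isoLocus_of_pullback _ (isFinLocFree_pullback _ hfree) (isFinLocFree_pullback _ hE) ε y'
  haveI : IsIso ((pb (𝟙 (Limits.pullback f v))).map ε) := isIso_of_range_subset ε (𝟙 _) fun y => hall y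
  exact (NatIso.isIso_map_iff (Scheme.Modules.pullbackId _) ε).1 inferInstance

/-- Local triviality is descent of the module. -/
theorem desc_iff (v : T ⟶ S) :
    LocTriv f E v ↔ ∃ N : T.Modules, FlatMod.IsFinLocFree N ∧ Nonempty ((pb (pr f v)).obj N ≅ ET f E v) := by
  refine ⟨fun H => ?_, fun ⟨N, hN, ⟨e⟩⟩ => locTriv_of_desc f E v N hN e⟩
  obtain ⟨h₁, h₂⟩ := H.isIso_counit f E hO hfp hfl hE
  exact ⟨_, h₁, ⟨asIso ((adj (pr f v)).counit.app (ET f E v))⟩⟩

omit hO hfp hfl hE in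
/-- The locus where the module has rank `n`. -/
def rkLocus (n : ℕ) : X.Opens := sSup {W | Nonempty ((pb W.ι).obj E ≅ FlatMod.freeMod _ n)}

omit hO hfp hfl in
theorem exists_mem_rkLocus (x : X) : ∃ n, x ∈ rkLocus E n := by
  obtain ⟨U, n, hx, ⟨e⟩⟩ := hE x
  exact ⟨n, Opens.mem_sSup.2 ⟨U, ⟨((Scheme.Modules.restrictFunctorIsoPullback _).app E).symm ≪≫ e⟩, hx⟩⟩

omit hO hfp hfl hE in
theorem rk_unique {A : Scheme.{u}} (a : A ⟶ X) (y : A) {n m : ℕ} (e : (pb a).obj E ≅ FlatMod.freeMod A n)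
    (h : a y ∈ rkLocus E m) : m = n := by
  obtain ⟨W, ⟨i⟩, hy⟩ := Opens.mem_sSup.1 h
  let W : X.Opens := W
  let b := (a ⁻¹ᵁ W).ι
  let e₁ : (pb (b ≫ a)).obj E ≅ FlatMod.freeMod _ n :=
    ((Scheme.Modules.pullbackComp b a).app E).symm ≪≫ (pb b).mapIso e ≪≫ Groth.L29.LocFree.pullbackFreeIso b n
  let e₂ : (pb (b ≫ a)).obj E ≅ FlatMod.freeMod _ m :=
    (Scheme.Modules.pullbackCongr (morphismRestrict_ι a W).symm).app E ≪≫
      ((Scheme.Modules.pullbackComp (a ∣_ W) W.ι).app E).symm ≪≫ (pb (a ∣_ W)).mapIso i ≪≫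
        Groth.L29.LocFree.pullbackFreeIso _ m
  let y' : (a ⁻¹ᵁ W : A.Opens) := ⟨y, hy⟩
  rw [← Groth.L29.DC.Fib.finrank_Φ_of_iso ((a ⁻¹ᵁ W : Scheme.{u}).residue y').hom e₂,
    Groth.L29.DC.Fib.finrank_Φ_of_iso ((a ⁻¹ᵁ W : Scheme.{u}).residue y').hom e₁]

omit hO hfp hfl hE in
/-- The open of points whose fibre has constant rank `n`. -/
def rkBase (n : ℕ) : S.Opens :=
  ⟨((fun x => f x) '' ((rkLocus E n : Set X)ᶜ))ᶜ,
    (f.isClosedMap _ (rkLocus E n).2.isClosed_compl).isOpen_compl⟩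

omit hfp hfl hE in
theorem rkBase_unique {s : S} {n m : ℕ} (hn : s ∈ rkBase f E n) (hm : s ∈ rkBase f E m) : n = m := by
  obtain ⟨x, hx⟩ := surjective_f f hO s
  have h1 : x ∈ rkLocus E n := by_contra fun h => hn ⟨x, h, hx⟩
  have h2 : x ∈ rkLocus E m := by_contra fun h => hm ⟨x, h, hx⟩
  obtain ⟨W, ⟨e⟩, hxW⟩ := Opens.mem_sSup.1 h1
  exact (rk_unique E (Scheme.Opens.ι W) ⟨x, hxW⟩ e h2).symm

theorem LocTriv.good_rkBase {v : T ⟶ S} (H : LocTriv f E v) (t : T) :
    ∃ n, Good f E v n t ∧ v t ∈ rkBase f E n := by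
  obtain ⟨T', k, n, hk, ⟨a, ha⟩, ⟨e⟩, hn⟩ := H.good f E hO hfp hfl t
  refine ⟨n, hn, ?_⟩
  rintro ⟨x, hx, hxs⟩
  have hfx : f x = (k ≫ v) a := hxs.trans (congrArg (fun b => v b) ha.symm)
  obtain ⟨y, hy, -⟩ := Scheme.exists_preimage_of_isPullback (IsPullback.of_hasPullback f (k ≫ v)) x a hfx
  obtain ⟨m, hm⟩ := exists_mem_rkLocus E hE x
  rw [← hy] at hm
  obtain rfl := rk_unique E _ y e hm
  exact hx (hy ▸ hm)

end Groth.L20.DescLocus
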