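import Groth.Agent.L20.DescLocus.Mate
import Groth.Agent.L29.DCoh.FreeIso

/-!
# The unit at free modules when the direct image of the structure sheaf is trivial
-/

set_option autoImplicit false
set_option linter.style.haveILetI false
set_option backward.isDefEq.respectTransparency false
set_option backward.isDefEq.respectTransparency.types false

universe u

open CategoryTheory AlgebraicGeometry Scheme.Modules

noncomputable section

namespace Groth.L20.DescLocus

open Groth.L29.DC.Fib (incl proj sum_proj_incl incl_proj_self incl_proj_ne)

variable {X S : Scheme.{u}} (p : X ⟶ S)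

theorem unit_structure :
    (pullbackPushforwardAdjunction p).unit.app (Coh.structureModule S) ≫
      (pushforward p).map (Groth.L29.LocFree.pullbackUnitIso p).hom = ClSub.unitToPush p := by
  refine ((pullbackPushforwardAdjunction p).homEquiv_unit _ _ _).symm.trans ?_
  refine (SheafOfModules.pullbackPushforwardAdjunction_homEquiv_pullbackObjUnitToUnit p.toRingCatSheafHom).trans ?_
  ext U : 2
  rfl

variable (hp : ∀ U : S.Opens, IsIso (p.app U))
include hp

theorem isIso_unitToPush : IsIso (ClSub.unitToPush p) := by
  rw [Scheme.Modules.Hom.isIso_iff_isIso_app]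
  intro U
  haveI := hp U
  rw [ConcreteCategory.isIso_iff_bijective]
  exact ConcreteCategory.bijective_of_isIso (p.app U)

theorem isIso_unit_structure :
    IsIso ((pullbackPushforwardAdjunction p).unit.app (Coh.structureModule S)) := by
  haveI := isIso_unitToPush p hp
  have h := unit_structure p
  exact IsIso.of_isIso_fac_right h

theorem isIso_unit_free (r : ℕ) :
    IsIso ((pullbackPushforwardAdjunction p).unit.app (FlatMod.freeMod S r)) := by
  haveI := Groth.L17.PushQCoh.additive_push p
  haveI : (pullback p).Additive := (pullbackPushforwardAdjunction p).left_adjoint_additive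
  haveI := isIso_unit_structure p hp
  let G := pullback p ⋙ pushforward p
  let τ := (pullbackPushforwardAdjunction p).unit
  refine ⟨∑ i, G.map (proj r i) ≫ inv (τ.app (Coh.structureModule S)) ≫ incl r i, ?_, ?_⟩
  · rw [Preadditive.comp_sum]
    refine Eq.trans (Finset.sum_congr rfl fun i _ => ?_) (sum_proj_incl r)
    have h := τ.naturality (proj (X := S) r i)
    simp only [Functor.id_map] at h
    erw [← reassoc_of% h]
    simp [τ]
  · rw [Preadditive.sum_comp]
    refine Eq.trans (Finset.sum_congr rfl fun i _ => ?_) (show ∑ i, G.map (proj r i ≫ incl r i) = 𝟙 _ by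
      rw [← Functor.map_sum, sum_proj_incl, G.map_id])
    have h := τ.naturality (incl (X := S) r i)
    simp only [Functor.id_map] at h
    simp only [Category.assoc]
    erw [h, IsIso.inv_hom_id_assoc, ← G.map_comp]

/-- The counit at a pulled back free module. -/
theorem isIso_counit_of_free {F : X.Modules} {r : ℕ} (e : F ≅ FlatMod.freeMod X r) :
    IsIso ((pullbackPushforwardAdjunction p).counit.app F) := by
  let e' : F ≅ (pullback p).obj (FlatMod.freeMod S r) := e ≪≫ (Groth.L29.LocFree.pullbackFreeIso p r).symm
  haveI := isIso_unit_free p hp r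
  haveI : IsIso ((pullbackPushforwardAdjunction p).counit.app ((pullback p).obj (FlatMod.freeMod S r))) :=
    IsIso.of_isIso_fac_left ((pullbackPushforwardAdjunction p).left_triangle_components (FlatMod.freeMod S r))
  have h := (pullbackPushforwardAdjunction p).counit.naturality e'.hom
  simp only [Functor.id_map] at h
  exact IsIso.of_isIso_fac_right h.symm

theorem nonempty_push_free {F : X.Modules} {r : ℕ} (e : F ≅ FlatMod.freeMod X r) :
    Nonempty ((pushforward p).obj F ≅ FlatMod.freeMod S r) := by
  haveI := isIso_unit_free p hp r
  exact ⟨(pushforward p).mapIso (e ≪≫ (Groth.L29.LocFree.pullbackFreeIso p r).symm) ≪≫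
    (asIso ((pullbackPushforwardAdjunction p).unit.app (FlatMod.freeMod S r))).symm⟩

/-- The base change map of a trivial module is an isomorphism. -/
theorem isIso_bc0_of_free {S' X' : Scheme.{u}} (g : S' ⟶ S) (p' : X' ⟶ S') (g' : X' ⟶ X) (w : g' ≫ p = p' ≫ g)
    (hp' : ∀ U : S'.Opens, IsIso (p'.app U)) {F : X.Modules} {r : ℕ} (e : F ≅ FlatMod.freeMod X r) :
    IsIso (CohBC.bc0 p g p' g' w F) := by
  let N := FlatMod.freeMod S r
  let e' : F ≅ (pullback p).obj N := e ≪≫ (Groth.L29.LocFree.pullbackFreeIso p r).symm
  haveI := isIso_unit_free p hp r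
  haveI : IsIso ((pullbackPushforwardAdjunction p').unit.app ((pullback g).obj N)) := by
    haveI := isIso_unit_free p' hp' r
    have h := (pullbackPushforwardAdjunction p').unit.naturality (Groth.L29.LocFree.pullbackFreeIso g r).hom
    simp only [Functor.id_map] at h
    exact IsIso.of_isIso_fac_right h.symm
  have h := unit_bc0 p g p' g' w N
  haveI : IsIso (CohBC.bc0 p g p' g' w ((pullback p).obj N) ≫ (pushforward p').map (sqIso p g p' g' w N).hom) :=
    IsIso.of_isIso_fac_left h
  haveI : IsIso (CohBC.bc0 p g p' g' w ((pullback p).obj N)) :=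
    IsIso.of_isIso_comp_right _ ((pushforward p').map (sqIso p g p' g' w N).hom)
  exact IsIso.of_isIso_fac_right (bc0_natural p g p' g' w e'.hom).symm

end Groth.L20.DescLocus
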