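import Groth.Agent.L20.DescLocus.Main
import Groth.Agent.L20.AdmSep
import Mathlib.AlgebraicGeometry.Morphisms.FinitePresentation
import Mathlib.Topology.Constructible

/-!
# Constructibility of the non-isomorphism locus
-/

set_option autoImplicit false
set_option linter.style.haveILetI false
set_option backward.isDefEq.respectTransparency false
set_option backward.isDefEq.respectTransparency.types false

universe u

open CategoryTheory AlgebraicGeometry TopologicalSpace Scheme.Modules Topology

noncomputable section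

namespace Groth.L20.DescLocus

open Groth.L29.DC.Fib (Φ ev mat)

variable {X : Scheme.{u}}

theorem isLocallyConstructible_of_isClopen {s : Set X} (h : IsClopen s) : IsLocallyConstructible s := by
  intro x
  by_cases hx : x ∈ s
  · refine ⟨s, h.2.mem_nhds hx, h.2, ?_⟩
    rw [show ((Subtype.val ⁻¹' s : Set s)) = Set.univ from Set.eq_univ_of_forall fun y => y.2]
    exact IsConstructible.univ
  · refine ⟨sᶜ, h.1.isOpen_compl.mem_nhds hx, h.1.isOpen_compl, ?_⟩
    rw [show ((Subtype.val ⁻¹' s : Set ↥sᶜ)) = ∅ from Set.eq_empty_of_forall_notMem fun y hy => y.2 hy]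
    exact IsConstructible.empty

/-- An open with locally constructible complement has quasi-compact inclusion. -/
theorem quasiCompact_ι (U : X.Opens) (h : IsLocallyConstructible ((U : Set X)ᶜ)) : QuasiCompact U.ι := by
  rw [quasiCompact_iff_forall_isAffineOpen]
  intro A hA
  haveI : IsAffine (A : Scheme.{u}) := hA
  rw [U.ι.isOpenEmbedding.isInducing.isCompact_iff]
  show IsCompact (U.ι '' (U.ι ⁻¹' (A : Set X)))
  rw [Set.image_preimage_eq_inter_range, Scheme.Opens.range_ι]
  have h1 := (h.preimage_of_isOpenEmbedding A.ι.isOpenEmbedding).isConstructible.compl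
  rw [Set.preimage_compl, compl_compl] at h1
  have h2 := (Groth.L20.AdmSep.isCompact_of_isConstructible h1).image A.ι.continuous
  rw [Set.image_preimage_eq_inter_range, Scheme.Opens.range_ι, Set.inter_comm] at h2
  exact h2

set_option maxHeartbeats 1000000 in
/-- The complement of the locus where a map of locally free modules is an isomorphism
is locally constructible. -/
theorem isLocallyConstructible_compl_isoLocus {M N : X.Modules} (hM : FlatMod.IsFinLocFree M)
    (hN : FlatMod.IsFinLocFree N) (φ : M ⟶ N) :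
    IsLocallyConstructible ((isoLocus φ : Set X)ᶜ) := by
  intro x
  obtain ⟨U₁, m, h₁, ⟨e₁⟩⟩ := hM x
  obtain ⟨U₂, n, h₂, ⟨e₂⟩⟩ := hN x
  obtain ⟨_, ⟨(W : X.Opens), hW, rfl⟩, hxW, hW12⟩ := X.isBasis_affineOpens.exists_subset_of_mem_open
    (show x ∈ U₁ ⊓ U₂ from ⟨h₁, h₂⟩) (U₁ ⊓ U₂).2
  have hW1 : W ≤ U₁ := fun y hy => (hW12 hy).1
  have hW2 : W ≤ U₂ := fun y hy => (hW12 hy).2
  obtain ⟨a⟩ := nonempty_free_pullback e₁ (X.homOfLE hW1) (X.homOfLE_ι _)
  obtain ⟨b⟩ := nonempty_free_pullback e₂ (X.homOfLE hW2) (X.homOfLE_ι _)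
  haveI : IsAffine (W : Scheme.{u}) := hW
  refine ⟨W, W.2.mem_nhds hxW, W.2, ?_⟩
  obtain rfl | hne := eq_or_ne m n
  swap
  · convert IsConstructible.univ
    refine Set.eq_univ_of_forall fun y hy => hne (by
      obtain ⟨(W' : X.Opens), h', hy'⟩ := Opens.mem_sSup.1 hy
      haveI : IsIso ((pullback W'.ι).map φ) := h'
      let a' := (pullback (W.ι ⁻¹ᵁ W').ι).mapIso a ≪≫ Groth.L29.LocFree.pullbackFreeIso _ m
      let b' := (pullback (W.ι ⁻¹ᵁ W').ι).mapIso b ≪≫ Groth.L29.LocFree.pullbackFreeIso _ n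
      haveI : IsIso ((pullback (W.ι ⁻¹ᵁ W').ι).map ((pullback W.ι).map φ)) := by
        rw [isIso_map_comp_iff]
        exact isIso_of_range_subset φ _ fun z => Opens.mem_sSup.2 ⟨W', h', z.2⟩
      let z' : (W.ι ⁻¹ᵁ W' : (W : Scheme.{u}).Opens) := ⟨y, hy'⟩
      rw [← Groth.L29.DC.Fib.finrank_Φ_of_iso ((W.ι ⁻¹ᵁ W' : Scheme.{u}).residue z').hom a',
        ← Groth.L29.DC.Fib.finrank_Φ_of_iso ((W.ι ⁻¹ᵁ W' : Scheme.{u}).residue z').hom
          (asIso ((pullback (W.ι ⁻¹ᵁ W').ι).map ((pullback W.ι).map φ)) ≪≫ b')])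
  let φ' := (pullback W.ι).map φ
  let d := (mat (a.inv ≫ φ' ≫ b.hom)).det
  have key : ∀ y : (W : Scheme.{u}), W.ι y ∈ isoLocus φ ↔ y ∈ (W : Scheme.{u}).basicOpen d := by
    intro y
    constructor
    · intro hy
      let O := W.ι ⁻¹ᵁ isoLocus φ
      let y' : O := ⟨y, hy⟩
      haveI : IsIso ((pullback O.ι).map φ') := by
        rw [isIso_map_comp_iff]
        exact isIso_of_range_subset φ _ fun z => z.2
      let α := (O.ι.stalkMap y').hom
      let β := ((O : Scheme.{u}).residue y').hom
      haveI : IsIso ((Φ (β.comp α)).map φ') := by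
        have hs : IsIso ((Groth.L00.Stk.F (W : Scheme.{u}) (O.ι y') ⋙ ModuleCat.extendScalars α).map φ') :=
          (NatIso.isIso_map_iff (Groth.L00.PullStalk.stalkIso O.ι y') φ').1
            (show IsIso ((Groth.L00.Stk.F _ y').map ((pullback O.ι).map φ')) from inferInstance)
        exact (NatIso.isIso_map_iff (ModuleCat.extendScalarsComp α β) _).2
          (show IsIso ((ModuleCat.extendScalars β).map ((ModuleCat.extendScalars α).map
            ((Groth.L00.Stk.F (W : Scheme.{u}) (O.ι y')).map φ'))) from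
              @Functor.map_isIso _ _ _ _ _ _ _ _ hs)
      haveI : IsLocalHom ((O : Scheme.{u}).residue y').hom :=
        inferInstanceAs (IsLocalHom (IsLocalRing.residue _))
      haveI : IsLocalHom (β.comp α) := RingHom.isLocalHom_comp β α
      let ρ := β.comp α
      refine (Groth.L29.DC.Fib.ev_ne_zero_iff ρ d).1 ?_
      have hb : Function.Bijective ((Φ ρ).map (a.inv ≫ φ' ≫ b.hom)).hom := by
        haveI : IsIso ((Φ ρ).map (a.inv ≫ φ' ≫ b.hom)) := by
          rw [Functor.map_comp, Functor.map_comp]; infer_instance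
        exact ConcreteCategory.bijective_of_isIso _
      have h1 : Function.Injective ((mat (a.inv ≫ φ' ≫ b.hom)).map (ev ρ)).mulVec := by
        have : Function.Injective ((mat (a.inv ≫ φ' ≫ b.hom)).map (ev ρ)).mulVecLin := by
          rw [← Groth.L29.DC.Fib.coord_map]
          exact (Groth.L29.DC.Fib.coord ρ _).injective.comp (hb.1.comp (Groth.L29.DC.Fib.coord ρ _).symm.injective)
        exact this
      rw [RingHom.map_det, RingHom.mapMatrix_apply]
      exact ((Matrix.isUnit_iff_isUnit_det _).1 (Matrix.mulVec_injective_iff_isUnit.1 h1)).ne_zero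
    · intro hy
      have h := Groth.L29.DC.Fib.isIso_restrict_of_det a b φ'
      rw [pullback_iff_restrict, isIso_map_comp_iff] at h
      let W' : X.Opens := W.ι ''ᵁ ((W : Scheme.{u}).basicOpen d)
      have hW' : IsIso ((pullback W'.ι).map φ) := by
        haveI := h
        refine isIso_map_of_fac (W.ι.isoImage _).inv (((W : Scheme.{u}).basicOpen d).ι ≫ W.ι) ?_ φ
        rw [Iso.inv_comp_eq]
        exact (Scheme.Hom.isoImage_hom_ι W.ι _).symm
      exact Opens.mem_sSup.2 ⟨W', hW', ⟨y, hy, rfl⟩⟩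
  have hc : IsConstructible (((W : Scheme.{u}).basicOpen d : Set (W : Scheme.{u}))ᶜ) :=
    (((isAffineOpen_top _).basicOpen d).isCompact.isConstructible ((W : Scheme.{u}).basicOpen d).2).compl
  refine Eq.mp (congrArg IsConstructible ?_) hc
  exact (Set.ext fun y => not_congr (key y)).symm

theorem quasiCompact_inf (U V : X.Opens) [QuasiCompact U.ι] [QuasiCompact V.ι] : QuasiCompact (U ⊓ V).ι := by
  have aux : ∀ (O : X.Opens) [QuasiCompact O.ι] (A : X.Opens), IsAffineOpen A →
      IsCompact ((O : Set X) ∩ A) := fun O _ A hA => by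
    have h := (QuasiCompact.isCompact_preimage (f := O.ι) (A : Set X) A.2 hA.isCompact).image O.ι.continuous
    rwa [Set.image_preimage_eq_inter_range, Scheme.Opens.range_ι, Set.inter_comm] at h
  rw [quasiCompact_iff_forall_isAffineOpen]
  intro A hA
  rw [(U ⊓ V).ι.isOpenEmbedding.isInducing.isCompact_iff]
  show IsCompact ((U ⊓ V).ι '' ((U ⊓ V).ι ⁻¹' (A : Set X)))
  rw [Set.image_preimage_eq_inter_range, Scheme.Opens.range_ι]
  have h := hA.isQuasiSeparated _ _ Set.inter_subset_right (U.2.inter A.2) (aux U A hA) Set.inter_subset_right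
    (V.2.inter A.2) (aux V A hA)
  convert h using 1
  ext y
  show y ∈ (A : Set X) ∧ y ∈ U ∧ y ∈ V ↔ (y ∈ U ∧ y ∈ (A : Set X)) ∧ y ∈ V ∧ y ∈ (A : Set X)
  tauto

end Groth.L20.DescLocus
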