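import Groth.Agent.L20.DescLocus.Main
import Groth.Agent.L20.DescLocus.Constr

/-!
# Representability of local triviality on the base
-/

set_option autoImplicit false
set_option linter.style.haveILetI false
set_option linter.unusedSectionVars false
set_option backward.isDefEq.respectTransparency false
set_option backward.isDefEq.respectTransparency.types false

universe u

open CategoryTheory AlgebraicGeometry TopologicalSpace
open Groth.L17 Groth.L17.BC Groth.L17.BC.Classes

noncomputable section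

namespace Groth.L20.DescLocus

local notation "pb" => Scheme.Modules.pullback
local notation "pf" => Scheme.Modules.pushforward
local notation "adj" => Scheme.Modules.pullbackPushforwardAdjunction

variable {X S T T' : Scheme.{u}} (f : X ⟶ S) (E : X.Modules)
variable (hO : ∀ (T : Scheme.{u}) (g : T ⟶ S) (U : T.Opens), IsIso ((Limits.pullback.snd f g).app U))
variable [IsProper f] [LocallyOfFinitePresentation f] [HasInjectiveResolutions X.Modules]
  [Coh.IsQCoh E] (hfp : CohB1.IsFP E) (hfl : FlatMod.IsFlatOver f E) (hE : FlatMod.IsFinLocFree E)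
include hO hfp hfl hE

omit hfp hfl in
/-- The inclusion of a rank stratum of the base is quasi-compact. -/
theorem quasiCompact_rkBase_ι (r : ℕ) : QuasiCompact (rkBase f E r).ι := by
  refine quasiCompact_ι _ ?_
  rw [show ((rkBase f E r : Set S)ᶜ) = (fun x => f x) '' ((rkLocus E r : Set X)ᶜ) from compl_compl _]
  refine f.isLocallyConstructible_image (isLocallyConstructible_of_isClopen
    ⟨(rkLocus E r).2.isClosed_compl, ?_⟩)
  rw [show ((rkLocus E r : Set X)ᶜ) = ⋃ n ∈ {n : ℕ | n ≠ r}, (rkLocus E n : Set X) from ?_]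
  · exact isOpen_biUnion fun n _ => (rkLocus E n).2
  ext x
  simp only [Set.mem_iUnion, Set.mem_compl_iff, Set.mem_setOf_eq, exists_prop]
  obtain ⟨n, hn⟩ := exists_mem_rkLocus E hE x
  constructor
  · exact fun h => ⟨n, fun hnr => h (hnr ▸ hn), hn⟩
  · rintro ⟨m, hm, hxm⟩ hxr
    obtain ⟨W, ⟨e⟩, hxW⟩ := Opens.mem_sSup.1 hxm
    exact hm (rk_unique E (Scheme.Opens.ι W) ⟨x, hxW⟩ e hxr).symm

/-- The piece of a given rank. -/
theorem exists_piece (r : ℕ) :
    ∃ (Z : Scheme.{u}) (j : Z ⟶ S), IsImmersion j ∧ LocallyOfFinitePresentation j ∧ QuasiCompact j ∧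
      (∀ z, j z ∈ rkBase f E r) ∧ LocTriv f E j ∧
      ∀ (T : Scheme.{u}) (v : T ⟶ S), LocTriv f E v → (∀ t, v t ∈ rkBase f E r) → ∃ w, w ≫ j = v := by
  obtain ⟨Z, ι, hι, hι', hqc, huniv, -⟩ := exists_bcFree_subscheme f E hfp hfl r
  haveI := hι; haveI := hι'; haveI := hqc
  have hgood : ∀ z, Good f E ι r z :=
    (bcFree_iff_good f E hfp hfl r ι (IsPullback.of_hasPullback f ι)).1
      ((huniv Z _ ι _ _ (IsPullback.of_hasPullback f ι)).1 ⟨𝟙 Z, Category.id_comp _⟩)
  obtain ⟨hfree, hbc⟩ := of_epi f E hfp hfl (v := ι) fun z => ⟨r, hgood z⟩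
  set ε := (adj (pr f ι)).counit.app (ET f E ι)
  haveI : IsProper (pr f ι) := inferInstance
  let Ω : Z.Opens := ⟨((fun y => pr f ι y) '' ((isoLocus ε : Set ↥(Limits.pullback f ι))ᶜ))ᶜ,
    ((pr f ι).isClosedMap _ (isoLocus ε).2.isClosed_compl).isOpen_compl⟩
  let U : Z.Opens := Ω ⊓ ι ⁻¹ᵁ rkBase f E r
  haveI : QuasiCompact U.ι := by
    haveI : QuasiCompact Ω.ι := quasiCompact_ι _ (by
      rw [show ((Ω : Set Z)ᶜ) = (fun y => pr f ι y) '' ((isoLocus ε : Set ↥(Limits.pullback f ι))ᶜ) from compl_compl _]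
      exact (pr f ι).isLocallyConstructible_image (isLocallyConstructible_compl_isoLocus
        (isFinLocFree_pullback _ hfree) (isFinLocFree_pullback _ hE) ε))
    haveI := quasiCompact_rkBase_ι f E hO hE r
    haveI : QuasiCompact (ι ⁻¹ᵁ rkBase f E r).ι :=
      MorphismProperty.of_isPullback (isPullback_morphismRestrict ι (rkBase f E r)) inferInstance
    exact quasiCompact_inf Ω _
  refine ⟨U, U.ι ≫ ι, inferInstance, inferInstance, inferInstance, fun z => z.2.2, ?_, fun T v H hv => ?_⟩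
  · haveI := hbc (proj f U.ι ι) (pr f (U.ι ≫ ι)) U.ι (isPullback_proj f U.ι ι)
    haveI : IsIso ((pb (proj f U.ι ι)).map ε) := by
      refine isIso_of_range_subset ε _ fun y => ?_
      by_contra hy
      refine (show pr f ι (proj f U.ι ι y) ∈ Ω from ?_) ⟨_, hy, rfl⟩
      rw [← Scheme.Hom.comp_apply, proj_snd]
      exact (pr f (U.ι ≫ ι) y).2.1
    haveI : IsIso ((adj (pr f (U.ι ≫ ι))).counit.app (ET f E (U.ι ≫ ι))) :=
      (counit_pullback f E U.ι).1 inferInstance
    have hg := good_comp f E hfp hfl r U.ι ι hgood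
    obtain ⟨hfreeU, -⟩ := of_epi f E hfp hfl (v := U.ι ≫ ι) fun z => ⟨r, hg z⟩
    exact locTriv_of_desc f E (U.ι ≫ ι) _ hfreeU
      (asIso ((adj (pr f (U.ι ≫ ι))).counit.app (ET f E (U.ι ≫ ι))))
  · have hg : ∀ t, Good f E v r t := fun t => by
      obtain ⟨n, hn, hn'⟩ := H.good_rkBase f E hO hfp hfl hE t
      obtain rfl := rkBase_unique f E hO hn' (hv t)
      exact hn
    obtain ⟨w, hw⟩ := (huniv T _ v _ _ (IsPullback.of_hasPullback f v)).2
      ((bcFree_iff_good f E hfp hfl r v (IsPullback.of_hasPullback f v)).2 hg)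
    subst hw
    haveI := hbc (proj f w ι) (pr f (w ≫ ι)) w (isPullback_proj f w ι)
    haveI : IsIso ((pb (proj f w ι)).map ε) :=
      (counit_pullback f E w).2 (H.isIso_counit f E hO hfp hfl hE).2
    have hrange : ∀ t, w t ∈ U := fun t => by
      refine ⟨?_, hv t⟩
      rintro ⟨z, hz, hzw⟩
      obtain ⟨y, hy, -⟩ := Scheme.exists_preimage_of_isPullback (isPullback_proj f w ι) z t hzw
      exact hz (hy ▸ mem_isoLocus_of_pullback _ (isFinLocFree_pullback _ hfree)
        (isFinLocFree_pullback _ hE) ε y)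
    refine ⟨IsOpenImmersion.lift U.ι w (by rintro _ ⟨t, rfl⟩; rw [Scheme.Opens.range_ι]; exact hrange t), ?_⟩
    rw [IsOpenImmersion.lift_fac_assoc]

/-- Local triviality on the base is represented by a quasi-compact immersion of finite presentation. -/
theorem exists_subscheme_qc :
    ∃ (Z : Scheme.{u}) (j : Z ⟶ S), IsImmersion j ∧ LocallyOfFinitePresentation j ∧ QuasiCompact j ∧
      ∀ (T : Scheme.{u}) (g : T ⟶ S), (∃ g' : T ⟶ Z, g' ≫ j = g) ↔ LocTriv f E g := by
  choose Z j hj hj' hqc hmem htriv hfac using exists_piece f E hO hfp hfl hE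
  let σ := fun r => Limits.Sigma.ι Z r
  let J : (∐ Z) ⟶ S := Limits.Sigma.desc j
  have hσ : ∀ r, σ r ≫ J = j r := fun r => Limits.Sigma.ι_desc _ _
  have hcov : ∀ z : ↥(∐ Z), ∃ r a, σ r a = z := fun z => by
    obtain ⟨r, a, ha⟩ := (sigmaOpenCover Z).exists_eq z
    exact ⟨r, a, ha⟩
  have hlfp : LocallyOfFinitePresentation J := IsZariskiLocalAtSource.sigmaDesc hj'
  have himm : IsImmersion J := by
    let G : S.Opens := ⨆ r, rkBase f E r
    let JG : (∐ Z) ⟶ G := IsOpenImmersion.lift G.ι J (by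
      rintro _ ⟨z, rfl⟩
      obtain ⟨r, a, rfl⟩ := hcov z
      rw [Scheme.Opens.range_ι, ← Scheme.Hom.comp_apply, hσ]
      exact Opens.mem_iSup.2 ⟨r, hmem r a⟩)
    have hJG : JG ≫ G.ι = J := IsOpenImmersion.lift_fac _ _ _
    suffices IsImmersion JG by rw [← hJG]; infer_instance
    refine IsZariskiLocalAtTarget.of_iSup_eq_top (P := @IsImmersion) (fun r => G.ι ⁻¹ᵁ rkBase f E r)
      (eq_top_iff.2 fun x _ => by
        obtain ⟨r, hr⟩ := Opens.mem_iSup.1 x.2
        exact Opens.mem_iSup.2 ⟨r, hr⟩) fun r => ?_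
    let W : G.toScheme.Opens := G.ι ⁻¹ᵁ rkBase f E r
    have hW : JG ⁻¹ᵁ W = (σ r).opensRange := by
      ext z
      show G.ι (JG z) ∈ rkBase f E r ↔ z ∈ Set.range (fun a => σ r a)
      rw [← Scheme.Hom.comp_apply, hJG]
      constructor
      · intro h
        obtain ⟨q, a, rfl⟩ := hcov z
        rw [← Scheme.Hom.comp_apply, hσ] at h
        obtain rfl := rkBase_unique f E hO (hmem q a) h
        exact ⟨a, rfl⟩
      · rintro ⟨a, rfl⟩
        rw [← Scheme.Hom.comp_apply, hσ]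
        exact hmem r a
    let e : Z r ⟶ (JG ⁻¹ᵁ W) := IsOpenImmersion.lift (JG ⁻¹ᵁ W).ι (σ r) (by
      rw [Scheme.Opens.range_ι, hW]; rfl)
    have he : e ≫ (JG ⁻¹ᵁ W).ι = σ r := IsOpenImmersion.lift_fac _ _ _
    haveI : IsOpenImmersion e := by
      haveI : IsOpenImmersion (e ≫ (JG ⁻¹ᵁ W).ι) := by rw [he]; infer_instance
      exact IsOpenImmersion.of_comp e (JG ⁻¹ᵁ W).ι
    haveI : Surjective e := ⟨fun z => by
      obtain ⟨a, ha⟩ : z.1 ∈ Set.range (fun a => σ r a) := hW.le z.2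
      refine ⟨a, (JG ⁻¹ᵁ W).ι.isOpenEmbedding.injective ?_⟩
      rw [← Scheme.Hom.comp_apply, he]; exact ha⟩
    haveI : IsIso e := isIso_of_isOpenImmersion_of_opensRange_eq_top e (Opens.ext e.surjective.range_eq)
    have hcomp : IsImmersion ((e ≫ (JG ∣_ W)) ≫ W.ι ≫ G.ι) := by
      simp only [Category.assoc, morphismRestrict_ι_assoc, hJG, reassoc_of% he, hσ]
      exact hj r
    haveI := IsImmersion.of_comp (e ≫ (JG ∣_ W)) (W.ι ≫ G.ι)
    exact (MorphismProperty.cancel_left_of_respectsIso @IsImmersion e (JG ∣_ W)).1 inferInstance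
  have htrivJ : LocTriv f E J := fun z => by
    obtain ⟨r, a, rfl⟩ := hcov z
    obtain ⟨T', k, n, hk, ⟨b, hb⟩, he⟩ := htriv r a
    haveI := hk
    refine ⟨T', k ≫ σ r, n, inferInstance, ⟨b, by rw [← hb]; rfl⟩, ?_⟩
    have aux : ∀ {a b : T' ⟶ S}, a = b → Nonempty (ET f E a ≅ FlatMod.freeMod _ n) →
        Nonempty (ET f E b ≅ FlatMod.freeMod _ n) := fun h he => by subst h; exact he
    exact aux (by rw [Category.assoc, hσ]) he
  have hJqc : QuasiCompact J := by
    rw [quasiCompact_iff_forall_isAffineOpen]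
    intro A hA
    obtain ⟨F, hF⟩ := (QuasiCompact.isCompact_preimage (f := f) (A : Set S) A.2 hA.isCompact).elim_finite_subcover
      (fun n => (rkLocus E n : Set X)) (fun n => (rkLocus E n).2)
      (fun x _ => Set.mem_iUnion.2 (exists_mem_rkLocus E hE x))
    have hA' : ((J ⁻¹ᵁ A : (∐ Z).Opens) : Set ↥(∐ Z)) = ⋃ r ∈ F, (fun a => σ r a) '' ((j r) ⁻¹' (A : Set S)) := by
      ext z
      simp only [Set.mem_iUnion, Set.mem_image, Set.mem_preimage, exists_prop]
      constructor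
      · intro hz
        obtain ⟨r, a, rfl⟩ := hcov z
        have hz' : j r a ∈ A := by rw [← hσ r]; exact hz
        obtain ⟨x, hx⟩ := surjective_f f hO (j r a)
        obtain ⟨n, hn, hxn⟩ := Set.mem_iUnion₂.1 (hF (show f x ∈ (A : Set S) from hx ▸ hz'))
        have hxr : x ∈ rkLocus E r := by_contra fun h => hmem r a ⟨x, h, hx⟩
        obtain ⟨W, ⟨e⟩, hxW⟩ := Opens.mem_sSup.1 hxn
        obtain rfl := rk_unique E (Scheme.Opens.ι W) ⟨x, hxW⟩ e hxr
        exact ⟨r, hn, a, hz', rfl⟩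
      · rintro ⟨r, -, a, ha, rfl⟩
        show J (σ r a) ∈ A
        rw [← Scheme.Hom.comp_apply, hσ]; exact ha
    rw [hA']
    refine F.isCompact_biUnion fun r _ => IsCompact.image ?_ (σ r).continuous
    haveI := hqc r
    exact QuasiCompact.isCompact_preimage (f := j r) _ A.2 hA.isCompact
  refine ⟨∐ Z, J, himm, hlfp, hJqc, fun T g => ⟨?_, fun H => ?_⟩⟩
  · rintro ⟨g', rfl⟩
    exact htrivJ.baseChange f E g'
  · have hw : ∀ r, ∃ w, w ≫ j r = (g ⁻¹ᵁ rkBase f E r).ι ≫ g := fun r =>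
      hfac r _ _ (H.baseChange f E _) fun t => t.2
    choose w hw using hw
    let 𝒰 := T.openCoverOfIsOpenCover (fun r : ℕ => g ⁻¹ᵁ rkBase f E r) (IsOpenCover.mk
      (eq_top_iff.2 fun t _ => by
        obtain ⟨n, -, hn⟩ := H.good_rkBase f E hO hfp hfl hE t
        exact Opens.mem_iSup.2 ⟨n, hn⟩))
    refine ⟨𝒰.glueMorphisms (fun r => w r ≫ σ r) (fun r q => ?_), 𝒰.hom_ext _ _ fun r => ?_⟩
    · by_cases hrq : r = q
      · subst hrq
        have : Limits.pullback.fst (𝒰.f r) (𝒰.f r) = Limits.pullback.snd (𝒰.f r) (𝒰.f r) :=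
          (cancel_mono (𝒰.f r)).1 Limits.pullback.condition
        rw [this]
      · haveI : IsEmpty ↥(Limits.pullback (𝒰.f r) (𝒰.f q)) := ⟨fun y => hrq (by
          refine rkBase_unique f E hO (Limits.pullback.fst (𝒰.f r) (𝒰.f q) y).2 ?_
          have h := congrArg (fun m => g (m y)) (Limits.pullback.condition (f := 𝒰.f r) (g := 𝒰.f q))
          exact h ▸ (Limits.pullback.snd (𝒰.f r) (𝒰.f q) y).2)⟩
        exact isInitialOfIsEmpty.hom_ext _ _
    · rw [← Category.assoc, Scheme.Cover.ι_glueMorphisms, Category.assoc, hσ, hw]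
      rfl

/-- Local triviality on the base is represented by an immersion of finite presentation. -/
theorem exists_subscheme :
    ∃ (Z : Scheme.{u}) (j : Z ⟶ S), IsImmersion j ∧ LocallyOfFinitePresentation j ∧
      ∀ (T : Scheme.{u}) (g : T ⟶ S), (∃ g' : T ⟶ Z, g' ≫ j = g) ↔ LocTriv f E g := by
  obtain ⟨Z, j, h₁, h₂, -, h₃⟩ := exists_subscheme_qc f E hO hfp hfl hE
  exact ⟨Z, j, h₁, h₂, h₃⟩

end Groth.L20.DescLocus
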