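import Groth.Agent.L20.DescLocus.Closure
import Groth.Agent.L20.DescLocus.Rep
import Groth.Agent.L20.DescLocus.AppIso
import Groth.Agent.L18.LocFreeFP
import Groth.Agent.L29.DCoh.PCQCoh
import Groth.Agent.L26.AbDual.Cancel
import Groth.Agent.L08.Cube.Inverse

/-!
# Triviality on fibres and separatedness of the Picard functor
-/

set_option autoImplicit false
set_option linter.style.haveILetI false
set_option backward.isDefEq.respectTransparency false
set_option backward.isDefEq.respectTransparency.types false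

universe u

open CategoryTheory AlgebraicGeometry TopologicalSpace
open Groth.Agent.AbDualLib

noncomputable section

namespace Groth.L20.PicSep

open Groth.L20.DescLocus

/-- Closedness is fppf local. -/
theorem isClosed_of_fppf {Y : Scheme.{u}} {R : Presieve Y} (hR : R ∈ Scheme.fppfPrecoverage Y) {D : Set Y}
    (h : ∀ ⦃U : Scheme.{u}⦄ (u : U ⟶ Y), R u → IsClosed ((fun x => u x) ⁻¹' D)) : IsClosed D := by
  obtain ⟨ι, U, v, rfl⟩ := R.exists_eq_ofArrows
  obtain ⟨hsurj, hv⟩ := (Scheme.ofArrows_mem_precoverage_iff _).1 hR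
  rw [← isOpen_compl_iff, show Dᶜ = ⋃ i, (fun x => v i x) '' (((fun x => v i x) ⁻¹' D)ᶜ) from ?_]
  · refine isOpen_iUnion fun i => ?_
    haveI := (hv i).1
    haveI := (hv i).2
    exact (v i).isOpenMap _ (h (v i) ⟨i⟩).isOpen_compl
  ext y
  simp only [Set.mem_iUnion, Set.mem_image, Set.mem_compl_iff, Set.mem_preimage]
  refine ⟨fun hy => ?_, fun ⟨i, x, hx, e⟩ => e ▸ hx⟩
  obtain ⟨i, x, rfl⟩ := hsurj y
  exact ⟨i, x, hy, rfl⟩

/-- An immersion absorbs morphisms from a field hitting it. -/
theorem exists_lift_of_mem_range {Z Y : Scheme.{u}} (j : Z ⟶ Y) [IsImmersion j] {K : Type u} [Field K]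
    (a : Spec (CommRingCat.of K) ⟶ Y) (h : a default ∈ Set.range (fun z => j z)) : ∃ l, l ≫ j = a := by
  let p := Limits.pullback.snd j a
  obtain ⟨z, hz⟩ := h
  have hs : Function.Surjective (fun y => p y) := fun y => by
    obtain ⟨w, -, hw⟩ := Scheme.exists_preimage_of_isPullback (IsPullback.of_hasPullback j a) z y
      (hz.trans (congrArg (fun t => a t) (Subsingleton.elim default y)))
    exact ⟨w, hw⟩
  haveI : Surjective p := ⟨hs⟩
  haveI : IsClosedImmersion p := IsClosedImmersion.of_isPreimmersion p (by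
    rw [show Set.range p = Set.univ from Set.range_eq_univ.2 hs]; exact isClosed_univ)
  haveI : IsIso p := isIso_of_isClosedImmersion_of_surjective p
  exact ⟨inv p ≫ Limits.pullback.fst j a, by rw [Category.assoc, Limits.pullback.condition, IsIso.inv_hom_id_assoc]⟩

section Fibre

variable {X B : Scheme.{u}} (f : X ⟶ B) [IsProper f] [Flat f] [LocallyOfFinitePresentation f]
  [GeometricallyIntegral f]

omit [IsProper f] [Flat f] [LocallyOfFinitePresentation f] in
theorem geometricallyConnected : GeometricallyConnected f :=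
  ⟨fun K _ x W fst snd h => by
    haveI : IrreducibleSpace W := GeometricallyIrreducible.geometrically_irreducibleSpace x fst snd h
    infer_instance⟩

/-- Triviality over a field valued point descends to the residue field. -/
theorem trivial_fibre_of_point {N : X.Modules} (hN : PicF.IsInvertible N) {K : Type u} [Field K]
    (b : Spec (CommRingCat.of K) ⟶ B) (h : Nonempty (ET f N b ≅ Coh.structureModule _)) :
    Nonempty (CohIII.fiberMod f N (b default) ≅ Coh.structureModule (f.fiber (b default))) := by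
  haveI := geometricallyConnected f
  haveI := Groth.L21.Extend.isQCoh_of_isInvertible hN
  haveI := Groth.L17.PushQCoh.hasInjectiveResolutions X
  have hE : FlatMod.IsFinLocFree N := Groth.L16.Existence.isFinLocFree_of_isInvertible hN
  have hfp : CohB1.IsFP N := Groth.L18.LFP.isFP_of_isFinLocFree N hE
  have hfl : FlatMod.IsFlatOver f N :=
    Groth.L29.DC.RelTor.isFlatOver_of_isFlat f (Groth.L21.RR.isFlat_of_isInvertible hN)
  have hO := isIso_app_baseChange f
  let free1 : ∀ W : Scheme.{u}, Coh.structureModule W ≅ FlatMod.freeMod W 1 := fun W =>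
    { hom := Limits.Sigma.ι (fun _ : Fin 1 => Coh.structureModule W) 0
      inv := Limits.Sigma.desc fun _ => 𝟙 _
      hom_inv_id := Limits.Sigma.ι_desc _ _
      inv_hom_id := Limits.Sigma.hom_ext _ _ fun i => by
        rw [Subsingleton.elim i 0, Limits.Sigma.ι_desc_assoc, Category.id_comp, Category.comp_id] }
  obtain ⟨Z, j, h₁, -, hZ⟩ := exists_subscheme f N hO hfp hfl hE
  haveI := h₁
  have hb : LocTriv f N b := fun t => by
    refine ⟨_, 𝟙 _, 1, inferInstance, ⟨t, rfl⟩, ?_⟩
    have aux : ∀ {a c : Spec (CommRingCat.of K) ⟶ B}, a = c →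
        Nonempty (ET f N a ≅ FlatMod.freeMod _ 1) → Nonempty (ET f N c ≅ FlatMod.freeMod _ 1) :=
      fun h he => by subst h; exact he
    exact aux (Category.id_comp _).symm ⟨h.some ≪≫ free1 _⟩
  obtain ⟨g, hg⟩ := (hZ _ b).2 hb
  obtain ⟨l, hl⟩ := exists_lift_of_mem_range j (B.fromSpecResidueField (b default))
    ⟨g default, by
      show j (g default) = B.fromSpecResidueField (b default) default
      rw [← Scheme.Hom.comp_apply, hg, Scheme.fromSpecResidueField_apply]⟩
  obtain ⟨M, hM, ⟨e⟩⟩ := (desc_iff f N hO hfp hfl hE _).1 ((hZ _ _).1 ⟨l, hl⟩)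
  obtain ⟨U, n, hU, ⟨a⟩⟩ := hM default
  have hU' : ∀ t, t ∈ U := fun t => Subsingleton.elim default t ▸ hU
  let k : Spec (B.residueField (b default)) ⟶ (U : Scheme.{u}) := IsOpenImmersion.lift U.ι (𝟙 _) (by
    rintro t -
    exact ⟨⟨t, hU' t⟩, rfl⟩)
  obtain ⟨c⟩ := nonempty_free_pullback a
    (pr f (B.fromSpecResidueField (b default)) ≫ k)
    (show (_ ≫ k) ≫ U.ι = pr f (B.fromSpecResidueField (b default)) by
      rw [Category.assoc, IsOpenImmersion.lift_fac, Category.comp_id])
  let i : CohIII.fiberMod f N (b default) ≅ FlatMod.freeMod (f.fiber (b default)) n := e.symm ≪≫ c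
  obtain ⟨y⟩ : Nonempty (f.fiber (b default)) := inferInstance
  have hn : 1 = n := by
    refine rk_unique N (f.fiberι (b default)) y i ?_
    obtain ⟨W, hW, ⟨w⟩⟩ := hN (f.fiberι (b default) y)
    exact Opens.mem_sSup.2 ⟨W,
      ⟨((Scheme.Modules.restrictFunctorIsoPullback _).app N).symm ≪≫ w ≪≫ free1 _⟩, hW⟩
  subst hn
  exact ⟨i ≪≫ (free1 _).symm⟩

end Fibre

open PicF

section Agree

variable {X S : Scheme.{u}} {f : X ⟶ S} {P : Over S} {φ : ∀ T : Over S, PicF.Cl (PicF.XT f T) → (T ⟶ P)}
  (hP : AbDual.IsRelPicK Scheme.fppfPrecoverage f P φ) {V : Over S} {c₁ c₂ M : PicF.Cl (PicF.XT f V)}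
  (h₁ : PicF.IsInvertibleCl c₁) (h₂ : PicF.IsInvertibleCl c₂) (hMinv : PicF.IsInvertibleCl M)
  (hM : PicGrp.mulCl c₂ M = oneCl _) {N : (PicF.XT f V).Modules} (hcN : PicF.cl N = PicGrp.mulCl c₁ M)
  {K : Type u} [Field K] (a : Spec (CommRingCat.of K) ⟶ V.left)
include hM hcN

theorem nonempty_iso_iff : Nonempty (ET (PicF.XTproj f V) N a ≅ Coh.structureModule _) ↔
    PicGrp.mulCl (PicF.pullCl (PicF.XTmap f (AbDual.ovrHom V a)) c₁)
        (PicF.pullCl (PicF.XTmap f (AbDual.ovrHom V a)) M) = oneCl _ := by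
  let i : Limits.pullback (PicF.XTproj f V) a ≅ PicF.XT f (AbDual.ovr V a) :=
    Limits.pullbackLeftPullbackSndIso f V.hom a
  have hi : i.hom ≫ PicF.XTmap f (AbDual.ovrHom V a) = Limits.pullback.fst (PicF.XTproj f V) a := by
    apply Limits.pullback.hom_ext
    · simp [i, PicF.XTmap]
    · simp [i, PicF.XTmap, Limits.pullback.condition]
  rw [← pullCl_mulCl, ← hcN]
  constructor
  · rintro ⟨e⟩
    have : PicF.pullCl (Limits.pullback.fst (PicF.XTproj f V) a) (PicF.cl N) = oneCl _ := cl_congr e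
    rw [← hi, PicLoc.pullCl_comp] at this
    have := congrArg (PicF.pullCl i.inv) this
    rwa [← PicLoc.pullCl_comp, i.inv_hom_id, PicLoc.pullCl_id, pullCl_oneCl] at this
  · intro h
    have := congrArg (PicF.pullCl i.hom) h
    rw [pullCl_oneCl, ← PicLoc.pullCl_comp, hi] at this
    exact (PicGrp.cl_eq_cl_iff _ _).1 this

include hP h₁ h₂ hMinv in
theorem points_eq_of_trivial (h : Nonempty (ET (PicF.XTproj f V) N a ≅ Coh.structureModule _)) :
    a ≫ (φ V c₁).left = a ≫ (φ V c₂).left := by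
  let A := AbDual.ovr V a
  let m := PicF.XTmap f (AbDual.ovrHom V a)
  have hm : PicGrp.mulCl (PicF.pullCl m c₂) (PicF.pullCl m M) = oneCl _ := by
    rw [← pullCl_mulCl, hM, pullCl_oneCl]
  have e : PicF.pullCl m c₁ = PicF.pullCl m c₂ := mulCl_right_cancel
    (PicLoc.isInvertibleCl_pullCl _ h₁) (PicLoc.isInvertibleCl_pullCl _ h₂)
    (PicLoc.isInvertibleCl_pullCl _ hMinv) (((nonempty_iso_iff hM hcN a).1 h).trans hm.symm)
  have e1 := hP.natural V A (AbDual.ovrHom V a) c₁ h₁
  have e2 := hP.natural V A (AbDual.ovrHom V a) c₂ h₂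
  exact congrArg CommaMorphism.left (e1.symm.trans ((congrArg (φ A) e).trans e2))

include hP h₁ h₂ in
theorem trivial_of_points_eq [IsProper f] [Flat f] [LocallyOfFinitePresentation f] [GeometricallyIntegral f]
    (hN : PicF.IsInvertible N) (h : a ≫ (φ V c₁).left = a ≫ (φ V c₂).left) :
    Nonempty (CohIII.fiberMod (PicF.XTproj f V) N (a default) ≅
      Coh.structureModule ((PicF.XTproj f V).fiber (a default))) := by
  let A := AbDual.ovr V a
  obtain ⟨R, hR, hloc⟩ := hP.locallyInjective A _ _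
    (PicLoc.isInvertibleCl_pullCl (PicF.XTmap f (AbDual.ovrHom V a)) h₁)
    (PicLoc.isInvertibleCl_pullCl (PicF.XTmap f (AbDual.ovrHom V a)) h₂)
    (by
      rw [hP.natural _ _ _ _ h₁, hP.natural _ _ _ _ h₂]
      exact Over.OverMorphism.ext h)
  obtain ⟨ι, U, v, rfl⟩ := R.exists_eq_ofArrows
  obtain ⟨i, y, -⟩ := ((Scheme.ofArrows_mem_precoverage_iff _).1 hR).1 (default : Spec (CommRingCat.of K))
  let b : Spec ((U i).residueField y) ⟶ V.left := ((U i).fromSpecResidueField y ≫ v i) ≫ a
  have hb : b default = a default := by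
    rw [Scheme.Hom.comp_apply]
    exact congrArg (fun t => a t) (Subsingleton.elim _ _)
  let g : AbDual.ovr V b ⟶ AbDual.ovr A (v i) :=
    Over.homMk ((U i).fromSpecResidueField y) (by simp [A, b])
  have h' := congrArg (PicF.pullCl (PicF.XTmap f g)) (hloc (v i) ⟨i⟩)
  simp only [← PicLoc.pullCl_comp] at h'
  have hb' : PicF.XTmap f g ≫ PicF.XTmap f (AbDual.ovrHom A (v i)) ≫ PicF.XTmap f (AbDual.ovrHom V a) =
      PicF.XTmap f (AbDual.ovrHom V b) := by
    apply Limits.pullback.hom_ext <;> simp [PicF.XTmap, b, g, A]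
  simp only [Category.assoc, hb'] at h'
  haveI : IsProper (PicF.XTproj f V) := inferInstanceAs (IsProper (Limits.pullback.snd _ _))
  haveI : Flat (PicF.XTproj f V) := inferInstanceAs (Flat (Limits.pullback.snd _ _))
  haveI : LocallyOfFinitePresentation (PicF.XTproj f V) :=
    inferInstanceAs (LocallyOfFinitePresentation (Limits.pullback.snd _ _))
  haveI : GeometricallyIntegral (PicF.XTproj f V) := inferInstanceAs (GeometricallyIntegral (Limits.pullback.snd _ _))
  rw [← hb]
  refine trivial_fibre_of_point (PicF.XTproj f V) hN b ((nonempty_iso_iff hM hcN b).2 ?_)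
  rw [h', ← pullCl_mulCl, hM, pullCl_oneCl]

end Agree

/-- The locus where two classes give the same point of the Picard scheme is closed. -/
theorem isClosed_agree {X S : Scheme.{u}} (f : X ⟶ S)
    [IsProper f] [Flat f] [LocallyOfFinitePresentation f] [GeometricallyIntegral f]
    (P : Over S) (φ : ∀ T : Over S, PicF.Cl (PicF.XT f T) → (T ⟶ P))
    (hP : AbDual.IsRelPicK Scheme.fppfPrecoverage f P φ) (V : Over S) (c₁ c₂ : PicF.Cl (PicF.XT f V))
    (h₁ : PicF.IsInvertibleCl c₁) (h₂ : PicF.IsInvertibleCl c₂) :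
    IsClosed {x : V.left | ∀ (K : Type u) [Field K] (a : Spec (CommRingCat.of K) ⟶ V.left), a default = x →
      a ≫ (φ V c₁).left = a ≫ (φ V c₂).left} := by
  obtain ⟨M, hMinv, hM⟩ : ∃ m : PicF.Cl (PicF.XT f V), PicF.IsInvertibleCl m ∧
      PicGrp.mulCl c₂ m = oneCl _ := by
    obtain ⟨L, rfl, hL⟩ := h₂
    obtain ⟨M, hM, e⟩ := Groth.L08.Cube.exists_inverse hL
    exact ⟨PicF.cl M, ⟨M, rfl, hM⟩, cl_congr e.some⟩
  obtain ⟨N, hcN, hN⟩ : PicF.IsInvertibleCl (PicGrp.mulCl c₁ M) := isInvertibleCl_mulCl h₁ hMinv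
  let q := PicF.XTproj f V
  haveI : IsProper q := inferInstanceAs (IsProper (Limits.pullback.snd _ _))
  haveI : Flat q := inferInstanceAs (Flat (Limits.pullback.snd _ _))
  haveI : LocallyOfFinitePresentation q :=
    inferInstanceAs (LocallyOfFinitePresentation (Limits.pullback.snd _ _))
  haveI : GeometricallyIntegral q := inferInstanceAs (GeometricallyIntegral (Limits.pullback.snd _ _))
  have hset : {x : V.left | ∀ (K : Type u) [Field K] (a : Spec (CommRingCat.of K) ⟶ V.left), a default = x →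
      a ≫ (φ V c₁).left = a ≫ (φ V c₂).left} =
      {x : V.left | Nonempty (CohIII.fiberMod q N x ≅ Coh.structureModule (q.fiber x))} := by
    ext x
    constructor
    · intro hx
      exact Eq.mp (congrArg (fun w => Nonempty (CohIII.fiberMod q N w ≅ Coh.structureModule (q.fiber w)))
        (Scheme.fromSpecResidueField_apply x _)) (trivial_of_points_eq hP h₁ h₂ hM hcN
          (V.left.fromSpecResidueField x) hN (hx _ _ (Scheme.fromSpecResidueField_apply _ _)))
    · rintro ⟨e⟩ K _ a rfl
      obtain ⟨⟨x', t⟩, rfl⟩ := (Scheme.SpecToEquivOfField K V.left).symm.surjective a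
      have hx' : ((Scheme.SpecToEquivOfField K V.left).symm ⟨x', t⟩) default = x' :=
        (Scheme.Hom.comp_apply _ _ _).trans (Scheme.fromSpecResidueField_apply _ _)
      have e' : Nonempty (CohIII.fiberMod q N x' ≅ Coh.structureModule (q.fiber x')) := hx' ▸ ⟨e⟩
      show (Spec.map t ≫ V.left.fromSpecResidueField x') ≫ _ = (Spec.map t ≫ V.left.fromSpecResidueField x') ≫ _
      rw [Category.assoc, Category.assoc,
        points_eq_of_trivial hP h₁ h₂ hMinv hM hcN (V.left.fromSpecResidueField x') e']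
  rw [hset]
  exact closure_subset_iff_isClosed.1 fun w hw =>
    trivial_on_fibres_of_closure q N hN (fun w hw => hw) w hw

end Groth.L20.PicSep
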