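import Groth.Agent.L17.PullBasis
import Groth.Agent.L18.IsoCover
import Groth.Agent.L20.DescLocus.Unit

/-!
# The unit at finite locally free modules
-/

set_option autoImplicit false
set_option linter.style.haveILetI false
set_option backward.isDefEq.respectTransparency false
set_option backward.isDefEq.respectTransparency.types false

universe u

open CategoryTheory AlgebraicGeometry Opposite Scheme.Modules

noncomputable section

namespace Groth.L20.DescLocus

open Groth.L00.Tensor

variable {X S : Scheme.{u}} (p : X ⟶ S) (hp : ∀ U : S.Opens, IsIso (p.app U))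
include hp

/-- The unit at a finite locally free module is an isomorphism when the direct image of the structure sheaf
is trivial. -/
theorem isIso_unit_of_isFinLocFree {M : S.Modules} (hM : FlatMod.IsFinLocFree M) :
    IsIso ((pullbackPushforwardAdjunction p).unit.app M) := by
  choose U n hU e using hM
  refine Groth.L18.IsoCover.isIso_of_bijective _ (fun x : S => (U x).ι ''ᵁ ⊤)
    (fun x => ⟨x, by rw [Scheme.Hom.image_top_eq_opensRange, Scheme.Opens.opensRange_ι]; exact hU x⟩) ?_
  intro x V hV
  obtain ⟨s, hs⟩ := Groth.L17.FinLocBases.exists_isBasis M (e x).some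
  let g : V ⟶ (U x).ι ''ᵁ ⊤ := homOfLE hV
  have hs' := hs.res g
  have ht := Groth.L17.PullBasis.isBasis_pullback p M _ hs'
  have b1 := hs' V (𝟙 V)
  have b2 := ht (p ⁻¹ᵁ V) (𝟙 _)
  have bp : Function.Bijective fun r : Fin (n x) → Γ(S, V) => fun j => p.app V (r j) := by
    haveI := hp V
    exact Function.Bijective.piMap fun _ => ConcreteCategory.bijective_of_isIso (p.app V)
  let η := ((pullbackPushforwardAdjunction p).unit.app M).app V
  refine (Function.Bijective.of_comp_iff _ b1).1 ?_
  refine Eq.mp (congrArg Function.Bijective ?_) (b2.comp bp)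
  funext r
  refine Eq.trans ?_ (map_sum η.hom _ _).symm
  refine Finset.sum_congr rfl fun j _ => ?_
  simp only [Groth.L17.LocBases.res_id]
  exact (((pullbackPushforwardAdjunction p).unit.app M).app_smul (r j) _).symm

end Groth.L20.DescLocus
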