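import Groth.Agent.L20.DescLocus.Closure
import Groth.Agent.L20.DescLocus.PicSep
import Groth.Agent.L20.DescLocus.Main
import Groth.Agent.L20.DescLocus.AppIso
import Groth.Agent.L20.DescLocus.UnitLocFree
import Groth.Agent.L18.LocFreeFP
import Groth.Agent.L29.DCoh.PCQCoh
import Groth.Agent.L08.Cube.Inverse

/-!
# Invertible modules trivial on all fibres
-/

set_option autoImplicit false
set_option linter.style.haveILetI false
set_option linter.unusedSectionVars false
set_option backward.isDefEq.respectTransparency false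
set_option backward.isDefEq.respectTransparency.types false

universe u

open CategoryTheory AlgebraicGeometry TopologicalSpace
open Groth.L17.BC.Classes

noncomputable section

namespace Groth.L20.FibTriv

open Groth.L20.DescLocus

/-- The structure sheaf is free of rank one. -/
def free1 (W : Scheme.{u}) : Coh.structureModule W ≅ FlatMod.freeMod W 1 where
  hom := Limits.Sigma.ι (fun _ : Fin 1 => Coh.structureModule W) 0
  inv := Limits.Sigma.desc fun _ => 𝟙 _
  hom_inv_id := Limits.Sigma.ι_desc _ _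
  inv_hom_id := Limits.Sigma.hom_ext _ _ fun i => by
    rw [Subsingleton.elim i 0, Limits.Sigma.ι_desc_assoc, Category.id_comp, Category.comp_id]

variable {X B : Scheme.{u}} (f : X ⟶ B) [IsProper f] [Flat f] [LocallyOfFinitePresentation f]
  [GeometricallyIntegral f]

/-- Sections of the module and of an inverse trivialise it on the fibre. -/
theorem trivial_of_sections {L M : X.Modules} (hL : PicF.IsInvertible L) (hM : PicF.IsInvertible M)
    (ε : CohB1.tensorMod L M ≅ Coh.structureModule X) (w : B)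
    (h₁ : ¬ CohIII.fiberRank f L 0 w < 1) (h₂ : ¬ CohIII.fiberRank f M 0 w < 1) :
    Nonempty (CohIII.fiberMod f L w ≅ Coh.structureModule (f.fiber w)) := by
  haveI := Groth.L21.Extend.isQCoh_of_isInvertible hL
  haveI := Groth.L21.Extend.isQCoh_of_isInvertible hM
  obtain ⟨σ, hσ⟩ := Groth.L08.Cube.exists_ne_zero_of_fiberRank f L w h₁
  obtain ⟨τ, hτ⟩ := Groth.L08.Cube.exists_ne_zero_of_fiberRank f M w h₂
  let εw : CohB1.tensorMod (CohIII.fiberMod f L w) (CohIII.fiberMod f M w) ≅ Coh.structureModule (f.fiber w) :=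
    Groth.L29.DC.PullTensor.pullTensor (f.fiberι w) L M ≪≫ (Scheme.Modules.pullback (f.fiberι w)).mapIso ε ≪≫
      Groth.L29.LocFree.pullbackUnitIso (f.fiberι w)
  have hLw := Groth.L18.Ample.isInvertible_pullback (f.fiberι w) hL
  obtain ⟨t, ht⟩ := Groth.L08.Cube.exists_cosec εw hLw (Groth.L18.Ample.isInvertible_pullback (f.fiberι w) hM) hτ
  let q : f.fiber w ⟶ Spec (CommRingCat.of (B.residueField w)) := f.fiberToSpecResidueField w
  haveI : UniversallyClosed q :=
    MorphismProperty.of_isPullback (IsPullback.of_hasPullback f (B.fromSpecResidueField w)) (inferInstance : UniversallyClosed f)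
  exact Groth.L08.Cube.nonempty_iso_of_sec_cosec
    (isField_of_universallyClosed (B.residueField w) q) hLw σ hσ t ht

/-- Triviality on a fibre with vanishing first cohomology spreads. -/
theorem exists_nhd_trivial {L M : X.Modules} (hL : PicF.IsInvertible L) (hM : PicF.IsInvertible M)
    (ε : CohB1.tensorMod L M ≅ Coh.structureModule X) (w : B)
    (htriv : Nonempty (CohIII.fiberMod f L w ≅ Coh.structureModule (f.fiber w)))
    (h1 : Subsingleton (Coh.HH (f.fiber w) (Coh.structureModule (f.fiber w)) 1)) :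
    ∀ᶠ y in nhds w, Nonempty (CohIII.fiberMod f L y ≅ Coh.structureModule (f.fiber y)) := by
  haveI := Groth.L17.PushQCoh.hasInjectiveResolutions X
  obtain ⟨θ⟩ := htriv
  let εw : CohB1.tensorMod (CohIII.fiberMod f L w) (CohIII.fiberMod f M w) ≅ Coh.structureModule (f.fiber w) :=
    Groth.L29.DC.PullTensor.pullTensor (f.fiberι w) L M ≪≫ (Scheme.Modules.pullback (f.fiberι w)).mapIso ε ≪≫
      Groth.L29.LocFree.pullbackUnitIso (f.fiberι w)
  have θM : CohIII.fiberMod f M w ≅ Coh.structureModule (f.fiber w) :=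
    (Groth.L00.Tensor.tensorUnitLeft _).symm ≪≫ Groth.L00.Tensor.tensorIso θ.symm (Iso.refl _) ≪≫ εw
  have key : ∀ N : X.Modules, PicF.IsInvertible N →
      (CohIII.fiberMod f N w ≅ Coh.structureModule (f.fiber w)) →
      ∀ᶠ y in nhds w, ¬ CohIII.fiberRank f N 0 y < 1 := by
    intro N hN e
    haveI := Groth.L21.Extend.isQCoh_of_isInvertible hN
    have hfp : CohB1.IsFP N := Groth.L18.LFP.isFP_of_isFinLocFree N (Groth.L16.Existence.isFinLocFree_of_isInvertible hN)
    have hfl : FlatMod.IsFlatOver f N :=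
      Groth.L29.DC.RelTor.isFlatOver_of_isFlat f (Groth.L21.RR.isFlat_of_isInvertible hN)
    obtain ⟨V, hV, l, hwV⟩ := exists_freeBC0 f N hfp hfl w
    obtain ⟨Δ⟩ := nonempty_derivedLES f
    have h1N : Subsingleton (CohIII.fiberH f N w 1) := by
      show Subsingleton (Coh.HH _ (CohIII.fiberMod f N w) 1)
      refine ⟨fun a b => ?_⟩
      have inj : ∀ c : Coh.HH _ (CohIII.fiberMod f N w) 1,
          Sheaf.H.map ((SheafOfModules.toSheaf _).map e.inv) 1
            (Sheaf.H.map ((SheafOfModules.toSheaf _).map e.hom) 1 c) = c := fun c => by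
        rw [← Sheaf.H.map_comp_apply, ← Functor.map_comp, e.hom_inv_id]
        exact (congrArg (fun t => Sheaf.H.map t 1 c) ((SheafOfModules.toSheaf _).map_id _)).trans (Sheaf.H.map_id_apply _)
      rw [← inj a, ← inj b]
      exact congrArg _ (Subsingleton.elim (α := Coh.HH _ (Coh.structureModule (f.fiber w)) 1) _ _)
    obtain ⟨W, -, -, hc⟩ := l.exists_locFree hV Δ hwV (l.split_of_vanishing hV hwV h1N)
    filter_upwards [hc] with y hy
    rw [hy, Groth.L08.Cube.fiberRank_of_trivial f N w e]
    exact lt_irrefl 1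
  filter_upwards [key L hL θ, key M hM θM] with y h₁ h₂
  exact trivial_of_sections f hL hM ε y h₁ h₂

/-- An invertible module trivial on the fibres with surjective base change comes from the base. -/
theorem desc_of_fibres {N : X.Modules} (hN : PicF.IsInvertible N)
    (htriv : ∀ w, Nonempty (CohIII.fiberMod f N w ≅ Coh.structureModule (f.fiber w)))
    (hepi : ∀ w, Epi (CohBC.bc0 f (B.fromSpecResidueField w) (f.fiberToSpecResidueField w) (f.fiberι w) (f.fiber_fac w) N)) :
    PicF.IsInvertible ((Scheme.Modules.pushforward f).obj N) ∧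
      IsIso ((Scheme.Modules.pullbackPushforwardAdjunction f).counit.app N) := by
  haveI := Groth.L17.PushQCoh.hasInjectiveResolutions X
  haveI := Groth.L21.Extend.isQCoh_of_isInvertible hN
  haveI := Groth.L20.PicSep.geometricallyConnected f
  have hE : FlatMod.IsFinLocFree N := Groth.L16.Existence.isFinLocFree_of_isInvertible hN
  have hfp : CohB1.IsFP N := Groth.L18.LFP.isFP_of_isFinLocFree N hE
  have hfl : FlatMod.IsFlatOver f N :=
    Groth.L29.DC.RelTor.isFlatOver_of_isFlat f (Groth.L21.RR.isFlat_of_isInvertible hN)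
  have hsplit : ∀ y ∈ (⊤ : B.Opens), ∃ (W : B.Opens) (hW : IsAffineOpen W) (l : FreeBC0 f N W),
      y ∈ W ∧ ∀ y' (hy' : y' ∈ W), y' ∈ (⊤ : B.Opens) → l.free.Split hW 0 hy' := fun y _ => by
    obtain ⟨V, hV, l, hyV⟩ := exists_freeBC0 f N hfp hfl y
    exact ⟨V, hV, l, hyV, fun y' hy' _ => (epi_bc0_iff_split hV l hy').1 (hepi y')⟩
  have hfree : FlatMod.IsFinLocFree ((Scheme.Modules.pushforward f).obj N) := fun t => by
    obtain ⟨W, hW, l, htW, hl⟩ := hsplit t trivial
    obtain ⟨Δ⟩ := nonempty_derivedLES f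
    obtain ⟨O, htO, hO', -⟩ := l.exists_locFree hW Δ htW (hl t htW trivial)
    exact hO' t htO
  set ε := (Scheme.Modules.pullbackPushforwardAdjunction f).counit.app N
  have hiso : ∀ x, x ∈ isoLocus ε := fun x => by
    let w := f x
    let q := f.fiberToSpecResidueField w
    haveI : IsProper q := MorphismProperty.of_isPullback (IsPullback.of_hasPullback f (B.fromSpecResidueField w)) inferInstance
    haveI : IsIso (CohBC.bc0 f (B.fromSpecResidueField w) q (f.fiberι w) (f.fiber_fac w) N) :=
      isIso_bc0 (f := f) (F := N) (U := ⊤)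
        (IsPullback.of_hasPullback f (B.fromSpecResidueField w)) (fun _ => trivial) hsplit
    haveI : IsIso ((Scheme.Modules.pullback (f.fiberι w)).map ε) := by
      obtain ⟨e⟩ := htriv w
      haveI : GeometricallyConnected q := MorphismProperty.of_isPullback (IsPullback.of_hasPullback f (B.fromSpecResidueField w)) ‹GeometricallyConnected f›
      haveI : GeometricallyReduced q := MorphismProperty.of_isPullback (IsPullback.of_hasPullback f (B.fromSpecResidueField w)) (inferInstance : GeometricallyReduced f)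
      haveI : IsIso ((Scheme.Modules.pullbackPushforwardAdjunction q).counit.app
          ((Scheme.Modules.pullback (f.fiberι w)).obj N)) :=
        isIso_counit_of_free q (isIso_app_of_field q) (e ≪≫ free1 _)
      rw [pullback_counit f (B.fromSpecResidueField w) q (f.fiberι w) (f.fiber_fac w)]
      infer_instance
    obtain ⟨y, hy⟩ : x ∈ Set.range (fun y => f.fiberι w y) := by
      rw [show Set.range (fun y => f.fiberι w y) = f ⁻¹' {w} from f.range_fiberι w]; exact rfl
    rw [← hy]
    exact mem_isoLocus_of_pullback _ (isFinLocFree_pullback _ hfree) hE ε y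
  have hε : IsIso ε := by
    haveI : IsIso ((Scheme.Modules.pullback (𝟙 X)).map ε) := isIso_of_range_subset ε (𝟙 _) fun y => hiso y
    exact (NatIso.isIso_map_iff (Scheme.Modules.pullbackId _) ε).1 inferInstance
  refine ⟨fun t => ?_, hε⟩
  obtain ⟨U, n, htU, ⟨a⟩⟩ := hfree t
  obtain ⟨y⟩ : Nonempty (f.fiber t) := inferInstance
  have hyU : f (f.fiberι t y) = t := Set.mem_of_eq_of_mem rfl ((f.range_fiberι t).le ⟨y, rfl⟩)
  let x : (f ⁻¹ᵁ U : X.Opens) := ⟨f.fiberι t y, by show f _ ∈ U; rw [hyU]; exact htU⟩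
  obtain ⟨b⟩ := nonempty_free_pullback a (f ∣_ U) rfl
  let e : (Scheme.Modules.pullback (f ⁻¹ᵁ U).ι).obj N ≅ FlatMod.freeMod _ n :=
    (Scheme.Modules.pullback (f ⁻¹ᵁ U).ι).mapIso (asIso ε).symm ≪≫
      (Scheme.Modules.pullbackComp (f ⁻¹ᵁ U).ι f).app _ ≪≫
      (Scheme.Modules.pullbackCongr (morphismRestrict_ι f U).symm).app _ ≪≫ b
  have hn : 1 = n := by
    refine rk_unique N (f ⁻¹ᵁ U).ι x e ?_
    obtain ⟨W, hW, ⟨w⟩⟩ := hN ((f ⁻¹ᵁ U).ι x)
    exact Opens.mem_sSup.2 ⟨W,
      ⟨((Scheme.Modules.restrictFunctorIsoPullback _).app N).symm ≪≫ w ≪≫ free1 _⟩, hW⟩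
  subst hn
  exact ⟨U, htU, ⟨a ≪≫ (free1 _).symm⟩⟩

/-- Vanishing of the first cohomology of a trivial fibre gives surjective base change. -/
theorem epi_bc0_of_trivial {N : X.Modules} (hN : PicF.IsInvertible N) (w : B)
    (e : CohIII.fiberMod f N w ≅ Coh.structureModule (f.fiber w))
    (h1 : Subsingleton (Coh.HH (f.fiber w) (Coh.structureModule (f.fiber w)) 1)) :
    Epi (CohBC.bc0 f (B.fromSpecResidueField w) (f.fiberToSpecResidueField w) (f.fiberι w) (f.fiber_fac w) N) := by
  haveI := Groth.L17.PushQCoh.hasInjectiveResolutions X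
  haveI := Groth.L21.Extend.isQCoh_of_isInvertible hN
  have hfp : CohB1.IsFP N := Groth.L18.LFP.isFP_of_isFinLocFree N (Groth.L16.Existence.isFinLocFree_of_isInvertible hN)
  have hfl : FlatMod.IsFlatOver f N :=
    Groth.L29.DC.RelTor.isFlatOver_of_isFlat f (Groth.L21.RR.isFlat_of_isInvertible hN)
  obtain ⟨V, hV, l, hwV⟩ := exists_freeBC0 f N hfp hfl w
  refine (epi_bc0_iff_split hV l hwV).2 (l.split_of_vanishing hV hwV ?_)
  refine ⟨fun a b => ?_⟩
  have inj : ∀ c : Coh.HH _ (CohIII.fiberMod f N w) 1,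
      Sheaf.H.map ((SheafOfModules.toSheaf _).map e.inv) 1
        (Sheaf.H.map ((SheafOfModules.toSheaf _).map e.hom) 1 c) = c := fun c => by
    rw [← Sheaf.H.map_comp_apply, ← Functor.map_comp, e.hom_inv_id]
    exact (congrArg (fun t => Sheaf.H.map t 1 c) ((SheafOfModules.toSheaf _).map_id _)).trans (Sheaf.H.map_id_apply _)
  rw [← inj a, ← inj b]
  exact congrArg _ (Subsingleton.elim (α := Coh.HH _ (Coh.structureModule (f.fiber w)) 1) _ _)

/-- The base change map of a module from the base is an isomorphism. -/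
theorem isIso_bc0_of_pullback {S' X' : Scheme.{u}} (p : X ⟶ B) (hp : ∀ U : B.Opens, IsIso (p.app U))
    (g : S' ⟶ B) (p' : X' ⟶ S') (g' : X' ⟶ X) (w : g' ≫ p = p' ≫ g) (hp' : ∀ U : S'.Opens, IsIso (p'.app U))
    {F : X.Modules} {N : B.Modules} (hN : FlatMod.IsFinLocFree N) (e : F ≅ (Scheme.Modules.pullback p).obj N) :
    IsIso (CohBC.bc0 p g p' g' w F) := by
  haveI := isIso_unit_of_isFinLocFree p hp hN
  haveI := isIso_unit_of_isFinLocFree p' hp' (isFinLocFree_pullback g hN)
  have h := unit_bc0 p g p' g' w N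
  haveI : IsIso (CohBC.bc0 p g p' g' w ((Scheme.Modules.pullback p).obj N) ≫
      (Scheme.Modules.pushforward p').map (sqIso p g p' g' w N).hom) :=
    IsIso.of_isIso_fac_left h
  haveI : IsIso (CohBC.bc0 p g p' g' w ((Scheme.Modules.pullback p).obj N)) :=
    IsIso.of_isIso_comp_right _ ((Scheme.Modules.pushforward p').map (sqIso p g p' g' w N).hom)
  exact IsIso.of_isIso_fac_right (bc0_natural p g p' g' w e.hom).symm

/-- A module from the base is trivial on the fibres. -/
theorem trivial_fibre_of_pullback (p : X ⟶ B) {F : X.Modules} {N : B.Modules} (hN : PicF.IsInvertible N)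
    (e : F ≅ (Scheme.Modules.pullback p).obj N) (w : B) :
    Nonempty (CohIII.fiberMod p F w ≅ Coh.structureModule (p.fiber w)) := by
  have hinv := Groth.L18.Ample.isInvertible_pullback (B.fromSpecResidueField w) hN
  obtain ⟨U, hU, ⟨a⟩⟩ := hinv default
  have htop : U = ⊤ := top_unique fun t _ => Subsingleton.elim default t ▸ hU
  subst htop
  let k : Spec (B.residueField w) ⟶ ((⊤ : (Spec (B.residueField w)).Opens) : Scheme.{u}) :=
    (Scheme.topIso _).inv
  have hk : k ≫ (⊤ : (Spec (B.residueField w)).Opens).ι = 𝟙 _ := by simp [k]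
  obtain ⟨b⟩ := nonempty_free_pullback (a ≪≫ free1 _) (p.fiberToSpecResidueField w ≫ k)
    (show (_ ≫ k) ≫ Scheme.Opens.ι _ = p.fiberToSpecResidueField w by rw [Category.assoc, hk, Category.comp_id])
  exact ⟨(Scheme.Modules.pullback (p.fiberι w)).mapIso e ≪≫
    sqIso p (B.fromSpecResidueField w) (p.fiberToSpecResidueField w) (p.fiberι w) (p.fiber_fac w) N ≪≫
    b ≪≫ (free1 _).symm⟩

end Groth.L20.FibTriv
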