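import Groth.Agent.L17.BC.Flattening
import Groth.Agent.L17.BC.GenApply
import Groth.Agent.L22.EnrSev.Basic
import Groth.Agent.L16.Rees.ClosedFibre
import Groth.Agent.L29.LocFree
import Groth.Agent.L18.LocFreeFP
import Groth.Agent.L29.DCoh.PCQCoh
import Groth.Agent.L16.Existence.Vanishing
import Groth.Agent.L29.DCoh.RelTor
import Groth.Agent.L21.RR.Twist

/-!
# The fibre dimensions under base change
-/

set_option autoImplicit false
set_option linter.style.haveILetI false
set_option linter.unusedSectionVars false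
set_option backward.isDefEq.respectTransparency false

universe u

open CategoryTheory CategoryTheory.Limits AlgebraicGeometry TopologicalSpace Opposite
open scoped TensorProduct
open Groth.L17.BC Groth.L17.BC.Classes

noncomputable section

namespace Groth.L20.RankBC

variable {X S X' S' : Scheme.{u}} {f : X ⟶ S} {g : S' ⟶ S} {f' : X' ⟶ S'} {g' : X' ⟶ X} {F : X.Modules}

/-- A complex over an affine open of the base gives one over an affine open of a base change. -/
theorem exists_pull_all {V : S.Opens} {hV : IsAffineOpen V} (l : GLocal f hV F) (pb : IsPullback g' f' f g)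
    {V' : S'.Opens} (hV' : IsAffineOpen V') (le : V' ≤ g ⁻¹ᵁ V) :
    ∃ l' : GLocal f' hV' ((Scheme.Modules.pullback g').obj F), ∀ y (hy : y ∈ V'),
      ∀ p : ℕ, CohIII.dRank l'.m.L (p : ℤ) (l'.pt hy) = CohIII.dRank l.m.L (p : ℤ) (l.pt (le hy)) := by
  let ψ := g.appLE V V' le
  have hle : f' ⁻¹ᵁ V' ≤ g' ⁻¹ᵁ (f ⁻¹ᵁ V) := (f'.preimage_mono le).trans (CohCmp.sqLE f g f' g' pb.w V)
  let g₁ : (↑(f' ⁻¹ᵁ V') : Scheme.{u}) ⟶ ↑(f ⁻¹ᵁ V) := g'.resLE (f ⁻¹ᵁ V) (f' ⁻¹ᵁ V') hle
  have hg₁ : g₁ ≫ (f ⁻¹ᵁ V).ι = (f' ⁻¹ᵁ V').ι ≫ g' := Scheme.Hom.resLE_comp_ι _ _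
  have hb : Spec.map ψ ≫ hV.fromSpec = hV'.fromSpec ≫ g := IsAffineOpen.SpecMap_appLE_fromSpec g hV hV' le
  have big : IsPullback (g₁ ≫ (f ⁻¹ᵁ V).ι) (fV f' hV') f (Spec.map ψ ≫ hV.fromSpec) := by
    rw [hg₁, hb]
    exact (isPullback_ι_fV f' hV').paste_horiz pb
  have w : g₁ ≫ fV f hV = fV f' hV' ≫ Spec.map ψ := by
    rw [← cancel_mono hV.fromSpec, Category.assoc, fV_fromSpec, Category.assoc, ← big.w, Category.assoc]
  have sq : IsPullback g₁ (fV f' hV') (fV f hV) (Spec.map ψ) :=
    IsPullback.of_right big w (isPullback_ι_fV f hV)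
  let iso : (Scheme.Modules.pullback (g₁ ≫ l.g)).obj l.F₀ ≅ FV f' (V := V') ((Scheme.Modules.pullback g').obj F) :=
    ((Scheme.Modules.pullbackComp g₁ l.g).app l.F₀).symm ≪≫
      (Scheme.Modules.pullback g₁).mapIso (l.iso ≪≫ (Scheme.Modules.restrictFunctorIsoPullback _).app F) ≪≫
      (Scheme.Modules.pullbackComp g₁ (f ⁻¹ᵁ V).ι).app F ≪≫ (Scheme.Modules.pullbackCongr hg₁).app F ≪≫
      ((Scheme.Modules.pullbackComp (f' ⁻¹ᵁ V').ι g').app F).symm ≪≫
      ((Scheme.Modules.restrictFunctorIsoPullback _).app _).symm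
  refine ⟨{ A₀ := l.A₀
            φ := ψ.hom.comp l.φ
            X₀ := l.X₀
            f₀ := l.f₀
            F₀ := l.F₀
            coh := l.coh
            g := g₁ ≫ l.g
            sq := by
              rw [show CommRingCat.ofHom (ψ.hom.comp l.φ) = CommRingCat.ofHom l.φ ≫ ψ from rfl, Spec.map_comp]
              exact sq.paste_horiz l.sq
            iso := iso
            m := l.m }, fun y hy p => ?_⟩
  refine congrArg _ ?_
  show PrimeSpectrum.comap (ψ.hom.comp l.φ) _ = _
  rw [PrimeSpectrum.comap_comp_apply, IsAffineOpen.comap_primeIdealOf_appLE V hV V' hV' le hy]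
  rfl

/-- The fibre dimensions of a base change are those at the image. -/
theorem fiberRank_baseChange [IsProper f] [LocallyOfFinitePresentation f] [Coh.IsQCoh F] (hfp : CohB1.IsFP F)
    (hfl : FlatMod.IsFlatOver f F) (pb : IsPullback g' f' f g) (y : S') (p : ℕ) :
    CohIII.fiberRank f' ((Scheme.Modules.pullback g').obj F) p y = CohIII.fiberRank f F p (g y) := by
  obtain ⟨_, ⟨V, hV, rfl⟩, hyV, -⟩ :=
    S.isBasis_affineOpens.exists_subset_of_mem_open (Set.mem_univ (g y)) isOpen_univ
  obtain ⟨_, ⟨W, hW, rfl⟩, hyW, hWV⟩ :=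
    S'.isBasis_affineOpens.exists_subset_of_mem_open (show y ∈ g ⁻¹ᵁ V from hyV) (g ⁻¹ᵁ V).2
  obtain ⟨l⟩ := nonempty_glocal f hV F hfp hfl
  obtain ⟨l', hl'⟩ := exists_pull_all l pb hW (fun x hx => hWV hx)
  rw [l'.fiberRank_eq hyW p, hl' y hyW p, l.fiberRank_eq]

variable {T : Scheme.{u}} {k : Type u} [Field k]

/-- Vanishing of the first cohomology of the structure sheaf persists on the fibres of a base change. -/
theorem subsingleton_fibre (t : T ⟶ Spec (CommRingCat.of k)) [IsProper t] [LocallyOfFinitePresentation t] [Flat t]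
    (h1 : Subsingleton (Coh.HH T (Coh.structureModule T) 1)) {s : S' ⟶ Spec (CommRingCat.of k)} {t' : X' ⟶ S'}
    {q : X' ⟶ T} (pb : IsPullback q t' t s) (y : S') :
    Subsingleton (Coh.HH (t'.fiber y) (Coh.structureModule (t'.fiber y)) 1) := by
  haveI := Groth.L29.DC.PCQCoh.isQCoh_of_isFinLocFree
    (Groth.L16.Existence.isFinLocFree_of_isInvertible (Groth.L18.Ample.isInvertible_structureModule T))
  have hfp : CohB1.IsFP (Coh.structureModule T) := Groth.L18.LFP.isFP_of_isFinLocFree _
    (Groth.L16.Existence.isFinLocFree_of_isInvertible (Groth.L18.Ample.isInvertible_structureModule T))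
  have hfl : FlatMod.IsFlatOver t (Coh.structureModule T) := Groth.L29.DC.RelTor.isFlatOver_of_isFlat t
    (Groth.L21.RR.isFlat_of_isInvertible (Groth.L18.Ample.isInvertible_structureModule T))
  let z : Spec (CommRingCat.of k) := s y
  haveI : Subsingleton (Spec (CommRingCat.of k)) := inferInstanceAs (Subsingleton (PrimeSpectrum k))
  haveI : IsClosedImmersion ((Spec (CommRingCat.of k)).fromSpecResidueField z) :=
    isClosed_singleton_iff_isClosedImmersion.mp (isClosed_discrete _)
  haveI : Surjective ((Spec (CommRingCat.of k)).fromSpecResidueField z) :=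
    ⟨fun v => ⟨IsLocalRing.closedPoint _, Subsingleton.elim _ _⟩⟩
  haveI : IsIso ((Spec (CommRingCat.of k)).fromSpecResidueField z) :=
    isIso_of_isClosedImmersion_of_surjective _
  haveI : IsIso (t.fiberι z) := inferInstanceAs (IsIso (pullback.fst _ _))
  have h0 : Subsingleton (CohIII.fiberH t (Coh.structureModule T) z 1) :=
    Groth.L22.EnrSev.subsingleton_of_iso (Groth.L29.LocFree.pullbackUnitIso (t.fiberι z)).symm 1
      (Groth.L16.Rees.ClosedFibre.subsingleton_HH_of_iso (inv (t.fiberι z)) 1 h1)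
  haveI : IsProper t' := MorphismProperty.of_isPullback pb inferInstance
  haveI : LocallyOfFinitePresentation t' := MorphismProperty.of_isPullback pb inferInstance
  haveI : Flat t' := MorphismProperty.of_isPullback pb inferInstance
  haveI := Groth.L29.DC.PCQCoh.isQCoh_of_isFinLocFree
    (Groth.L16.Existence.isFinLocFree_of_isInvertible (Groth.L18.Ample.isInvertible_structureModule X'))
  have hr := fiberRank_baseChange hfp hfl pb y 1
  rw [show CohIII.fiberRank t (Coh.structureModule T) 1 z = 0 from Module.finrank_zero_of_subsingleton] at hr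
  have hinv := Groth.L18.Ample.isInvertible_pullback q (Groth.L18.Ample.isInvertible_structureModule T)
  haveI := Groth.L21.Extend.isQCoh_of_isInvertible hinv
  have h2 : Subsingleton (CohIII.fiberH t' ((Scheme.Modules.pullback q).obj (Coh.structureModule T)) y 1) :=
    (subsingleton_iff_fiberRank_eq_zero t' _
      (Groth.L18.LFP.isFP_of_isFinLocFree _ (Groth.L16.Existence.isFinLocFree_of_isInvertible hinv))
      (Groth.L29.DC.RelTor.isFlatOver_of_isFlat t' (Groth.L21.RR.isFlat_of_isInvertible hinv)) y 1).2 hr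
  exact Groth.L22.EnrSev.subsingleton_of_iso
    ((Scheme.Modules.pullback (t'.fiberι y)).mapIso (Groth.L29.LocFree.pullbackUnitIso q) ≪≫
      Groth.L29.LocFree.pullbackUnitIso (t'.fiberι y)) 1 h2

end Groth.L20.RankBC
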