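import Groth.Agent.L17.BC.FlatteningScheme

/-!
# Units, counits and the degree zero base change map
-/

set_option autoImplicit false
set_option linter.style.haveILetI false
set_option backward.isDefEq.respectTransparency false
set_option backward.isDefEq.respectTransparency.types false

universe u

open CategoryTheory AlgebraicGeometry Scheme.Modules

noncomputable section

namespace Groth.L20.DescLocus

variable {X S S' X' : Scheme.{u}}

theorem pushforwardCongr_rfl (f : X ⟶ S) (M : X.Modules) :
    (pushforwardCongr (rfl : f = f)).hom.app M = 𝟙 _ := by
  ext U : 2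
  rw [pushforwardCongr_hom_app_app, eqToHom_refl, op_id, M.presheaf.map_id]
  rfl

/-- Units along equal morphisms. -/
theorem unit_congr {h h' : X ⟶ S} (e : h = h') (N : S.Modules) :
    (pullbackPushforwardAdjunction h).unit.app N ≫ (pushforwardCongr e).hom.app _ =
      (pullbackPushforwardAdjunction h').unit.app N ≫ (pushforward h').map ((pullbackCongr e).inv.app N) := by
  subst e
  rw [pushforwardCongr_rfl]
  simp [pullbackCongr]

/-- Units of composites. -/
theorem unit_comp {W : Scheme.{u}} (f : W ⟶ X) (g : X ⟶ S) (N : S.Modules) :
    (pullbackPushforwardAdjunction g).unit.app N ≫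
      (pushforward g).map ((pullbackPushforwardAdjunction f).unit.app ((pullback g).obj N)) ≫
        (pushforwardComp f g).hom.app _ =
      (pullbackPushforwardAdjunction (f ≫ g)).unit.app N ≫
        (pushforward (f ≫ g)).map ((pullbackComp f g).inv.app N) := by
  rw [← conjugateEquiv_pullbackComp_inv f g]
  have h := unit_conjugateEquiv ((pullbackPushforwardAdjunction g).comp (pullbackPushforwardAdjunction f))
    (pullbackPushforwardAdjunction (f ≫ g)) (pullbackComp f g).inv N
  rw [Adjunction.comp_unit_app] at h
  simpa [Category.assoc] using h

variable (f : X ⟶ S) (g : S' ⟶ S) (f' : X' ⟶ S') (g' : X' ⟶ X) (w : g' ≫ f = f' ≫ g)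

/-- The pullbacks along the two ways around a square. -/
def sqIso (N : S.Modules) :
    (pullback g').obj ((pullback f).obj N) ≅ (pullback f').obj ((pullback g).obj N) :=
  (pullbackComp g' f).app N ≪≫ (pullbackCongr w).app N ≪≫ ((pullbackComp f' g).app N).symm

theorem bc0Adj_natural {F G : X.Modules} (a : F ⟶ G) :
    (pushforward f).map a ≫ CohBC.bc0Adj f g f' g' w G =
      CohBC.bc0Adj f g f' g' w F ≫ (pushforward g).map ((pushforward f').map ((pullback g').map a)) := by
  have h0 := (pullbackPushforwardAdjunction g').unit.naturality a
  have h1 := (pushforwardComp g' f).hom.naturality ((pullback g').map a)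
  have h2 := (pushforwardCongr w).hom.naturality ((pullback g').map a)
  have h3 := (pushforwardComp f' g).inv.naturality ((pullback g').map a)
  simp only [Functor.id_map, Functor.comp_map] at h0 h1 h2 h3
  simp only [CohBC.bc0Adj, Category.assoc]
  rw [← h3, ← reassoc_of% h2, ← reassoc_of% h1, ← Functor.map_comp_assoc, ← Functor.map_comp_assoc, h0]

/-- The base change map is natural in the module. -/
theorem bc0_natural {F G : X.Modules} (a : F ⟶ G) :
    (pullback g).map ((pushforward f).map a) ≫ CohBC.bc0 f g f' g' w G =
      CohBC.bc0 f g f' g' w F ≫ (pushforward f').map ((pullback g').map a) := by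
  apply ((pullbackPushforwardAdjunction g).homEquiv _ _).injective
  rw [Adjunction.homEquiv_naturality_left, Adjunction.homEquiv_naturality_right]
  simp only [CohBC.bc0, Equiv.apply_symm_apply]
  exact bc0Adj_natural f g f' g' w a

/-- The base change map after the unit is the unit. -/
theorem unit_bc0 (N : S.Modules) :
    (pullback g).map ((pullbackPushforwardAdjunction f).unit.app N) ≫
      CohBC.bc0 f g f' g' w ((pullback f).obj N) ≫ (pushforward f').map (sqIso f g f' g' w N).hom =
      (pullbackPushforwardAdjunction f').unit.app ((pullback g).obj N) := by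
  apply ((pullbackPushforwardAdjunction g).homEquiv _ _).injective
  rw [Adjunction.homEquiv_naturality_left, Adjunction.homEquiv_naturality_right, CohBC.bc0]
  erw [Equiv.apply_symm_apply]
  conv_rhs => rw [Adjunction.homEquiv_unit]
  have h1 := unit_comp g' f N
  have h2 := unit_congr w N
  have h3 := unit_comp f' g N
  simp only [CohBC.bc0Adj, Category.assoc]
  rw [reassoc_of% h1]
  have n2 := (pushforwardCongr w).hom.naturality ((pullbackComp g' f).inv.app N)
  rw [reassoc_of% n2, reassoc_of% h2]
  have n3 := (pushforwardComp f' g).inv.naturality
    ((pullbackCongr w).inv.app N ≫ (pullbackComp g' f).inv.app N)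
  simp only [Functor.map_comp, Category.assoc, Functor.comp_map] at n3
  rw [← cancel_mono ((pushforwardComp f' g).hom.app ((pullback f').obj ((pullback g).obj N)))]
  have h4 : (pushforward g).map ((pushforward f').map (sqIso f g f' g' w N).hom) ≫
      (pushforwardComp f' g).hom.app _ =
      (pushforwardComp f' g).hom.app _ ≫ (pushforward (f' ≫ g)).map (sqIso f g f' g' w N).hom :=
    (pushforwardComp f' g).hom.naturality _
  simp only [Category.assoc]
  rw [h4, Iso.inv_hom_id_app_assoc]
  erw [h3]
  rw [← Functor.map_comp, ← Functor.map_comp]
  congr 2
  simp [sqIso]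

/-- The base change map is the adjoint of the pulled back counit. -/
theorem bc0_eq (F : X.Modules) :
    CohBC.bc0 f g f' g' w F = (pullbackPushforwardAdjunction f').homEquiv _ _
      ((sqIso f g f' g' w ((pushforward f).obj F)).inv ≫
        (pullback g').map ((pullbackPushforwardAdjunction f).counit.app F)) := by
  rw [Adjunction.homEquiv_unit]
  have h := unit_bc0 f g f' g' w ((pushforward f).obj F)
  rw [← h]
  simp only [Category.assoc, ← Functor.map_comp, Iso.hom_inv_id_assoc]
  rw [← bc0_natural, ← Functor.map_comp_assoc, Adjunction.right_triangle_components]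
  erw [CategoryTheory.Functor.map_id, Category.id_comp]
  rfl

/-- Pulling back the counit gives the counit, once the base change map is inserted. -/
theorem pullback_counit (F : X.Modules) :
    (pullback g').map ((pullbackPushforwardAdjunction f).counit.app F) =
      (sqIso f g f' g' w ((pushforward f).obj F)).hom ≫ (pullback f').map (CohBC.bc0 f g f' g' w F) ≫
        (pullbackPushforwardAdjunction f').counit.app ((pullback g').obj F) := by
  have h := ((pullbackPushforwardAdjunction f').homEquiv _ _).symm_apply_apply
    ((sqIso f g f' g' w ((pushforward f).obj F)).inv ≫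
      (pullback g').map ((pullbackPushforwardAdjunction f).counit.app F))
  rw [← bc0_eq, Adjunction.homEquiv_counit] at h
  exact (Iso.eq_inv_comp _).1 h |>.symm

end Groth.L20.DescLocus
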