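import Groth.Agent.L20.DescLocus.AppIso

/-!
# The direct image of the structure sheaf when fibres have only constant functions
-/

set_option autoImplicit false
set_option linter.style.haveILetI false
set_option linter.unusedSectionVars false
set_option backward.isDefEq.respectTransparency false
set_option backward.isDefEq.respectTransparency.types false

universe u

open CategoryTheory AlgebraicGeometry TopologicalSpace
open Groth.L17 Groth.L17.BC Groth.L17.BC.Classes

noncomputable section

namespace Groth.L20.DescLocus

local notation "adj" => Scheme.Modules.pullbackPushforwardAdjunction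

/-- Over a field, it is enough to look at global functions. -/
theorem isIso_app_of_appTop {k : Type u} [Field k] {Z : Scheme.{u}} (q : Z ⟶ Spec (CommRingCat.of k))
    (h : Function.Bijective q.appTop) (U : (Spec (CommRingCat.of k)).Opens) : IsIso (q.app U) := by
  rw [ConcreteCategory.isIso_iff_bijective]
  rcases (Set.eq_empty_or_nonempty (U : Set (Spec (CommRingCat.of k)))) with hU | ⟨x, hx⟩
  · obtain rfl : U = ⊥ := Opens.ext hU
    haveI : Subsingleton Γ(Z, q ⁻¹ᵁ ⊥) := by
      rw [show q ⁻¹ᵁ (⊥ : (Spec (CommRingCat.of k)).Opens) = ⊥ from rfl]; infer_instance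
    exact ⟨fun a b _ => Subsingleton.elim a b, fun b => ⟨0, Subsingleton.elim _ _⟩⟩
  · obtain rfl : U = ⊤ := Opens.ext (Set.eq_univ_of_forall fun y => Subsingleton.elim x y ▸ hx)
    exact h

variable {X S : Scheme.{u}} (f : X ⟶ S) [IsProper f] [Flat f] [LocallyOfFinitePresentation f]

/-- For a proper flat family of finite presentation whose fibres have only constant functions,
the direct image of the structure sheaf is the structure sheaf, universally. -/
theorem isIso_app_universally (hq : ∀ (s : S) (U : (Spec (S.residueField s)).Opens),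
      IsIso ((f.fiberToSpecResidueField s).app U))
    {X' T : Scheme.{u}} (g' : X' ⟶ X) (q' : X' ⟶ T) (g : T ⟶ S) (hsqT : IsPullback g' q' f g) (U : T.Opens) :
    IsIso (q'.app U) := by
  haveI := PushQCoh.hasInjectiveResolutions X
  have hE : FlatMod.IsFinLocFree (Coh.structureModule X) :=
    Groth.L16.Existence.isFinLocFree_of_isInvertible (Groth.L18.Ample.isInvertible_structureModule _)
  have hfree' : FlatMod.IsFinLocFree (Coh.structureModule S) :=
    Groth.L16.Existence.isFinLocFree_of_isInvertible (Groth.L18.Ample.isInvertible_structureModule _)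
  have hfp : CohB1.IsFP (Coh.structureModule X) := Groth.L18.LFP.isFP_of_isFinLocFree _ hE
  haveI : Coh.IsQCoh (Coh.structureModule X) := Groth.L29.DC.PCQCoh.isQCoh_of_isFinLocFree hE
  have hfl : FlatMod.IsFlatOver f (Coh.structureModule X) := fun x => by
    letI := (f.stalkMap x).hom.toAlgebra
    letI := FlatMod.moduleStalkOver f (Coh.structureModule X) x
    haveI : IsScalarTower (S.presheaf.stalk (f x)) (X.presheaf.stalk x) ((Coh.structureModule X).presheaf.stalk x) :=
      IsScalarTower.of_algebraMap_smul fun _ _ => rfl
    haveI : Module.Flat (S.presheaf.stalk (f x)) (X.presheaf.stalk x) := Flat.stalkMap f x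
    haveI : Module.Flat (X.presheaf.stalk x) ((Coh.structureModule X).presheaf.stalk x) :=
      Groth.L29.DC.isFlat_of_isFinLocFree hE x
    exact Module.Flat.trans (S.presheaf.stalk (f x)) (X.presheaf.stalk x) ((Coh.structureModule X).presheaf.stalk x)
  let η := (adj f).unit.app (Coh.structureModule S)
  -- on fibres
  have hfib : ∀ s : S, IsIso ((Scheme.Modules.pullback (S.fromSpecResidueField s)).map η ≫
      CohBC.bc0 f (S.fromSpecResidueField s) (f.fiberToSpecResidueField s) (f.fiberι s) (f.fiber_fac s)
        ((Scheme.Modules.pullback f).obj (Coh.structureModule S))) := fun s => by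
    let q : f.fiber s ⟶ Spec (CommRingCat.of (S.residueField s)) := f.fiberToSpecResidueField s
    haveI := isIso_unit_structure q (hq s)
    haveI : IsIso ((adj q).unit.app ((Scheme.Modules.pullback (S.fromSpecResidueField s)).obj (Coh.structureModule S))) := by
      have h := (adj q).unit.naturality (Groth.L29.LocFree.pullbackUnitIso (S.fromSpecResidueField s)).hom
      simp only [Functor.id_map] at h
      exact IsIso.of_isIso_fac_right h.symm
    have h := unit_bc0 f (S.fromSpecResidueField s) q (f.fiberι s) (f.fiber_fac s) (Coh.structureModule S)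
    rw [← Category.assoc] at h
    exact IsIso.of_isIso_fac_right h
  let e : (Scheme.Modules.pullback f).obj (Coh.structureModule S) ≅ Coh.structureModule X :=
    Groth.L29.LocFree.pullbackUnitIso f
  have hepi : ∀ s : S, Epi (CohBC.bc0 f (S.fromSpecResidueField s) (f.fiberToSpecResidueField s) (f.fiberι s)
      (f.fiber_fac s) (Coh.structureModule X)) := fun s => by
    haveI := hfib s
    haveI : Epi (CohBC.bc0 f (S.fromSpecResidueField s) (f.fiberToSpecResidueField s) (f.fiberι s) (f.fiber_fac s)
        ((Scheme.Modules.pullback f).obj (Coh.structureModule S))) :=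
      epi_of_epi ((Scheme.Modules.pullback (S.fromSpecResidueField s)).map η) _
    have h := bc0_natural f (S.fromSpecResidueField s) (f.fiberToSpecResidueField s) (f.fiberι s) (f.fiber_fac s) e.hom
    exact epi_of_epi_fac h
  -- local freeness and base change
  obtain ⟨hfree, hbc⟩ : FlatMod.IsFinLocFree ((Scheme.Modules.pushforward f).obj (Coh.structureModule X)) ∧
      ∀ ⦃X'' T' : Scheme.{u}⦄ (v' : X'' ⟶ X) (f'' : X'' ⟶ T') (u' : T' ⟶ S) (hsq : IsPullback v' f'' f u'),
        IsIso (CohBC.bc0 f u' f'' v' hsq.w (Coh.structureModule X)) := by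
    have hsplit : ∀ y ∈ (⊤ : S.Opens), ∃ (W : S.Opens) (hW : IsAffineOpen W)
        (l : FreeBC0 f (Coh.structureModule X) W),
        y ∈ W ∧ ∀ y' (hy' : y' ∈ W), y' ∈ (⊤ : S.Opens) → l.free.Split hW 0 hy' := fun y _ => by
      obtain ⟨_, ⟨V, hV, rfl⟩, hyV, -⟩ :=
        S.isBasis_affineOpens.exists_subset_of_mem_open (Set.mem_univ y) isOpen_univ
      obtain ⟨g, l, -⟩ := exists_det f (Coh.structureModule X) hfp hfl hV
      exact ⟨V, hV, l, hyV, fun y' hy' _ => (epi_bc0_iff_split hV l hy').1 (hepi y')⟩
    refine ⟨fun t => ?_, fun X'' T' v' f'' u' hsq => isIso_bc0 (U := ⊤) hsq (fun _ => trivial) hsplit⟩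
    obtain ⟨W, hW, l, htW, hl⟩ := hsplit t trivial
    obtain ⟨Δ⟩ := nonempty_derivedLES f
    obtain ⟨O, htO, hO', -⟩ := l.exists_locFree hW Δ htW (hl t htW trivial)
    exact hO' t htO
  let η' := η ≫ (Scheme.Modules.pushforward f).map e.hom
  have hη : ∀ s, s ∈ isoLocus η' := fun s => by
    haveI := hfib s
    haveI := hbc (f.fiberι s) (f.fiberToSpecResidueField s) (S.fromSpecResidueField s) (IsPullback.of_hasPullback _ _)
    haveI : IsIso ((Scheme.Modules.pullback (S.fromSpecResidueField s)).map η') := by
      have h := bc0_natural f (S.fromSpecResidueField s) (f.fiberToSpecResidueField s) (f.fiberι s) (f.fiber_fac s) e.hom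
      haveI : IsIso (((Scheme.Modules.pullback (S.fromSpecResidueField s)).map η') ≫
          CohBC.bc0 f (S.fromSpecResidueField s) (f.fiberToSpecResidueField s) (f.fiberι s) (f.fiber_fac s)
            (Coh.structureModule X)) := by
        rw [Functor.map_comp, Category.assoc, h, ← Category.assoc]
        infer_instance
      exact IsIso.of_isIso_comp_right _ (CohBC.bc0 f (S.fromSpecResidueField s) (f.fiberToSpecResidueField s)
        (f.fiberι s) (f.fiber_fac s) (Coh.structureModule X))
    obtain ⟨x⟩ : Nonempty (Spec (S.residueField s)) := inferInstance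
    rw [← Scheme.fromSpecResidueField_apply s x]
    exact mem_isoLocus_of_pullback _ hfree' hfree η' x
  haveI : IsIso ((Scheme.Modules.pullback (𝟙 S)).map η') := isIso_of_range_subset η' (𝟙 S) fun y => hη y
  haveI : IsIso η' := (NatIso.isIso_map_iff (Scheme.Modules.pullbackId _) η').1 inferInstance
  haveI := hbc g' q' g hsqT
  haveI : IsIso ((Scheme.Modules.pullback g).map η ≫
      CohBC.bc0 f g q' g' hsqT.w ((Scheme.Modules.pullback f).obj (Coh.structureModule S))) := by
    have h := bc0_natural f g q' g' hsqT.w e.hom
    haveI : IsIso ((Scheme.Modules.pullback g).map η ≫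
        CohBC.bc0 f g q' g' hsqT.w ((Scheme.Modules.pullback f).obj (Coh.structureModule S)) ≫
        (Scheme.Modules.pushforward q').map ((Scheme.Modules.pullback g').map e.hom)) := by
      rw [← h]
      have : (Scheme.Modules.pullback g).map η ≫
          (Scheme.Modules.pullback g).map ((Scheme.Modules.pushforward f).map e.hom) ≫
          CohBC.bc0 f g q' g' hsqT.w (Coh.structureModule X) =
        (Scheme.Modules.pullback g).map η' ≫ CohBC.bc0 f g q' g' hsqT.w (Coh.structureModule X) := by
        rw [← Category.assoc, ← Functor.map_comp]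
      rw [this]
      infer_instance
    rw [← Category.assoc] at this
    exact IsIso.of_isIso_comp_right _ ((Scheme.Modules.pushforward q').map ((Scheme.Modules.pullback g').map e.hom))
  have h := unit_bc0 f g q' g' hsqT.w (Coh.structureModule S)
  rw [← Category.assoc] at h
  haveI : IsIso ((adj q').unit.app ((Scheme.Modules.pullback g).obj (Coh.structureModule S))) :=
    h ▸ inferInstance
  haveI : IsIso ((adj q').unit.app (Coh.structureModule T)) := by
    have h := (adj q').unit.naturality (Groth.L29.LocFree.pullbackUnitIso g).hom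
    simp only [Functor.id_map] at h
    exact IsIso.of_isIso_fac_left h
  haveI : IsIso (ClSub.unitToPush q') := by
    rw [← unit_structure q']; infer_instance
  exact app_isIso_of_isIso_unitToPush q' U

end Groth.L20.DescLocus
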